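import Cfsg.Agent.Lib.AutPSp.Basic

/-!
# The image of a transvection under an automorphism of `PSp_{2m}`

A Sylow `p`-subgroup fixing the point `x` contains the group of all `q(x; a, t)`, and its centre
consists of such elements.  In odd characteristic the centre consists of transvections; in
characteristic two transvections are told apart by: no product of two conjugates has order four.
-/

set_option autoImplicit false

namespace Cfsg.Agent.AutPSp

open Matrix Cfsg.Agent.FormsLib
open scoped Pointwise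

universe u

variable {m : ℕ} {F : Type u} [Field F]

local notation "V" => Fin m ⊕ Fin m → F
local notation "Sp" => Matrix.symplecticGroup (Fin m) F
local notation "PSpG" => Cfsg.PSp m F
local notation "Mat" => Matrix (Fin m ⊕ Fin m) (Fin m ⊕ Fin m) F
local notation "B" => spB m F

/-- An element fixing every point is `±1`. -/
theorem eq_pm_one_of_fix_points {s : Sp}
    (h : ∀ x : V, x ≠ 0 → ∃ a : F, (s : Mat) *ᵥ x = a • x) :
    (s : Mat) = 1 ∨ (s : Mat) = -1 := by
  by_cases hm : m = 0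
  · left
    subst hm
    ext i
    exact isEmptyElim i
  obtain ⟨i0⟩ : Nonempty (Fin m) := ⟨⟨0, Nat.pos_of_ne_zero hm⟩⟩
  have hscal : ∃ a : F, ∀ v : V, (s : Mat) *ᵥ v = a • v := by
    have hb : ∀ i : Fin m ⊕ Fin m, (Pi.single i 1 : V) ≠ 0 := fun i => by simp
    choose a ha using fun i => h _ (hb i)
    refine ⟨a (.inl i0), fun v => ?_⟩
    have hconst : ∀ i, a i = a (.inl i0) := by
      intro i
      by_cases hi : i = .inl i0
      · rw [hi]
      have hne : (Pi.single i 1 + Pi.single (.inl i0) 1 : V) ≠ 0 := fun e => by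
        simpa [hi] using congrFun e i
      obtain ⟨c, hc⟩ := h _ hne
      rw [Matrix.mulVec_add, ha, ha] at hc
      have e1 := congrFun hc i
      have e2 := congrFun hc (.inl i0)
      simp [hi, Ne.symm hi] at e1 e2
      rw [e1, e2]
    have hs : (s : Mat) = a (.inl i0) • 1 := by
      ext i j
      have e := congrFun (ha j) i
      simp [hconst] at e
      simpa [Matrix.one_apply, Pi.single_apply] using e
    rw [hs, Matrix.smul_mulVec, Matrix.one_mulVec]
  obtain ⟨a, ha⟩ := hscal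
  have h2 : a * a = 1 := by
    have hx : (Pi.single (Sum.inl i0) 1 : V) ≠ 0 := by simp
    obtain ⟨w, hw⟩ := exists_not_orth hx
    have e := B_sp s w (Pi.single (Sum.inl i0) 1)
    rw [ha, ha] at e
    simpa [hw] using e
  rcases mul_self_eq_one_iff.1 h2 with e | e
  · left
    exact Matrix.ext_iff_mulVec.2 fun v => by rw [ha, e, one_smul, Matrix.one_mulVec]
  · right
    exact Matrix.ext_iff_mulVec.2 fun v => by
      rw [ha, e, neg_one_smul, Matrix.neg_mulVec, Matrix.one_mulVec]

theorem fix_points_of_mem_center {z : Sp} (hz : z ∈ Subgroup.center Sp) {x : V} (hx : x ≠ 0) :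
    ∃ a : F, (z : Mat) *ᵥ x = a • x := by
  have e := tr_conj z x (1 : F)
  rw [(Subgroup.mem_center_iff.1 hz (tr x 1)).symm, mul_inv_cancel_right] at e
  exact tr_eq_tr hx one_ne_zero e

theorem mem_center_iff {z : Sp} : z ∈ Subgroup.center Sp ↔ (z : Mat) = 1 ∨ (z : Mat) = -1 := by
  refine ⟨fun hz => eq_pm_one_of_fix_points fun x hx => fix_points_of_mem_center hz hx, ?_⟩
  rintro (h | h) <;> refine Subgroup.mem_center_iff.2 fun g => Subtype.ext ?_ <;> simp [h]

theorem proj_eq_iff {s t : Sp} :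
    proj m F s = proj m F t ↔ ((s⁻¹ * t : Sp) : Mat) = 1 ∨ ((s⁻¹ * t : Sp) : Mat) = -1 := by
  rw [← mem_center_iff, ← proj_eq_one_iff, map_mul, map_inv, inv_mul_eq_one]

/-- Two elements agreeing on all points are equal in `PSp`. -/
theorem proj_eq_of_points {s t : Sp}
    (h : ∀ x : V, x ≠ 0 → ∃ a : F, (t : Mat) *ᵥ x = a • ((s : Mat) *ᵥ x)) :
    proj m F s = proj m F t := by
  rw [proj_eq_iff]
  refine eq_pm_one_of_fix_points fun x hx => ?_
  obtain ⟨a, ha⟩ := h x hx
  exact ⟨a, by rw [Submonoid.coe_mul, ← Matrix.mulVec_mulVec, ha, Matrix.mulVec_smul,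
    sp_coe_inv_mulVec]⟩

variable (p : ℕ) [Fact p.Prime] [CharP F p]

/-- Elements of `p`-power order are determined by their image in `PSp`. -/
theorem eq_of_proj_eq {s t : Sp} {k l : ℕ} (hs : s ^ p ^ k = 1) (ht : t ^ p ^ l = 1)
    (h : proj m F s = proj m F t) : s = t := by
  set z := s⁻¹ * t with hz
  have hzc : z ∈ Subgroup.center Sp := mem_center_iff.2 (proj_eq_iff.1 h)
  have htz : t = s * z := by rw [hz, mul_inv_cancel_left]
  have hzN : z ^ p ^ (k + l) = 1 := by
    have hc : Commute s z := Subgroup.mem_center_iff.1 hzc s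
    have e : t ^ p ^ (k + l) = s ^ p ^ (k + l) * z ^ p ^ (k + l) := by rw [htz, hc.mul_pow]
    have e1 : t ^ p ^ (k + l) = 1 := by rw [pow_add, mul_comm, pow_mul, ht, one_pow]
    have e2 : s ^ p ^ (k + l) = 1 := by rw [pow_add, pow_mul, hs, one_pow]
    rw [e1, e2, one_mul] at e
    exact e.symm
  suffices hz1 : z = 1 by rw [htz, hz1, mul_one]
  rcases mem_center_iff.1 hzc with e | e
  · exact Subtype.ext e
  · rcases isEmpty_or_nonempty (Fin m ⊕ Fin m) with hm | hne
    · exact Subtype.ext (Matrix.ext fun i => hm.elim i)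
    rcases (Nat.Prime.eq_two_or_odd' (Fact.out : p.Prime)) with hp | hp
    · subst hp
      apply Subtype.ext
      rw [e, OneMemClass.coe_one]
      ext i j
      exact CharTwo.neg_eq _
    · exfalso
      have e' := congrArg Subtype.val hzN
      rw [SubmonoidClass.coe_pow, e, Odd.neg_one_pow (hp.pow), OneMemClass.coe_one] at e'
      obtain ⟨i⟩ := hne
      have h2 : (2 : F) = 0 := by
        have := congrFun (congrFun e' i) i
        simp at this
        linear_combination -this
      obtain ⟨n, hn⟩ := hp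
      have hdvd : p ∣ 2 := (CharP.cast_eq_zero_iff F p 2).1 (by exact_mod_cast h2)
      have := Nat.le_of_dvd two_pos hdvd
      have := (Fact.out : p.Prime).two_le
      omega

variable [Finite F]

/-- Transitivity on non-zero vectors. -/
theorem exists_map_vector {x y : V} (hx : x ≠ 0) (hy : y ≠ 0) :
    ∃ s : Sp, (s : Mat) *ᵥ x = y := by
  obtain ⟨g, hg⟩ := spIso_exists_map_vec hx hy
  exact ⟨(spEquiv m F).symm g, (spEquiv_symm_mulVec g x).trans hg⟩

/-- Every point is fixed by some Sylow `p`-subgroup. -/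
theorem exists_sylow_fix {x : V} (hx : x ≠ 0) :
    ∃ P : Sylow p Sp, ∀ g ∈ (P : Subgroup Sp), (g : Mat) *ᵥ x = x := by
  obtain ⟨P⟩ := (inferInstance : Nonempty (Sylow p Sp))
  letI : MulAction P V :=
    { smul := fun g v => ((g : Sp) : Mat) *ᵥ v
      one_smul := Matrix.one_mulVec
      mul_smul := fun g h v => by
        show (((g * h : P) : Sp) : Mat) *ᵥ v = _
        rw [Subgroup.coe_mul, Submonoid.coe_mul, ← Matrix.mulVec_mulVec]
        rfl }
  have hdvd : p ∣ Nat.card V := by
    rw [Nat.card_fun]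
    have : p ∣ Nat.card F := by
      haveI := Fintype.ofFinite F
      obtain ⟨n, hp, hn⟩ := FiniteField.card F p
      rw [Nat.card_eq_fintype_card, hn]
      exact dvd_pow_self p n.ne_zero
    have hm : Nat.card (Fin m ⊕ Fin m) ≠ 0 := by
      intro h0
      apply hx
      funext i
      haveI : IsEmpty (Fin m ⊕ Fin m) := (Nat.card_eq_zero.1 h0).resolve_right (by
        intro; exact (not_infinite_iff_finite.2 inferInstance) (by assumption))
      exact isEmptyElim i
    exact this.trans (dvd_pow_self _ hm)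
  obtain ⟨x0, hx0, hne⟩ := P.2.exists_fixed_point_of_prime_dvd_card_of_fixed_point V hdvd
    (a := (0 : V)) (fun g => Matrix.mulVec_zero _)
  obtain ⟨s, hs⟩ := exists_map_vector (Ne.symm hne) hx
  refine ⟨s • P, fun g hg => ?_⟩
  rw [Sylow.coe_subgroup_smul, Subgroup.mem_pointwise_smul_iff_inv_smul_mem] at hg
  have hfix : ((s⁻¹ * g * s : Sp) : Mat) *ᵥ x0 = x0 := by
    have := hx0 ⟨_, hg⟩
    change (((MulAut.conj s)⁻¹ • g : Sp) : Mat) *ᵥ x0 = x0 at this
    simpa [MulAut.smul_def] using this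
  rw [Submonoid.coe_mul, Submonoid.coe_mul, ← Matrix.mulVec_mulVec, ← Matrix.mulVec_mulVec,
    hs] at hfix
  have := congrArg (fun v => (s : Mat) *ᵥ v) hfix
  simp only [sp_coe_mulVec_inv, hs] at this
  exact this

/-- The group of all `q(x; a, t)`. -/
noncomputable def qSub (x : V) : Subgroup Sp where
  carrier := {g | ∃ (a : V) (h : B x a = 0) (t : F), g = qE x a h t}
  one_mem' := ⟨0, map_zero _, 0, (qE_zero x).symm⟩
  mul_mem' := by
    rintro _ _ ⟨a, ha, t, rfl⟩ ⟨b, hb, s, rfl⟩
    exact ⟨_, _, _, qE_mul ha hb t s⟩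
  inv_mem' := by
    rintro _ ⟨a, ha, t, rfl⟩
    refine ⟨-a, by rw [map_neg, ha, neg_zero], -t, inv_eq_of_mul_eq_one_right ?_⟩
    rw [qE_mul, ← qE_zero x]
    exact qE_congr (add_neg_cancel a) (by rw [map_neg, LinearMap.neg_apply, B_self]; ring)

omit [Finite F] in
theorem isPGroup_qSub (x : V) : IsPGroup p (qSub x : Subgroup Sp) := by
  rintro ⟨g, a, ha, t, rfl⟩
  exact ⟨1, Subtype.ext (by rw [pow_one]; exact qE_pow_char p ha t)⟩

omit [Finite F] in
theorem qSub_le_sylow {x : V} (P : Sylow p Sp)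
    (hP : ∀ g ∈ (P : Subgroup Sp), (g : Mat) *ᵥ x = x) : qSub x ≤ (P : Subgroup Sp) := by
  have hnorm : (P : Subgroup Sp) ≤ Subgroup.normalizer (qSub x) := by
    intro g hg
    rw [Subgroup.mem_normalizer_iff]
    refine fun h => ⟨?_, ?_⟩
    · rintro ⟨a, ha, t, rfl⟩
      rw [qE_conj]
      refine ⟨(g : Mat) *ᵥ a, by rw [← B_sp g] at ha; rwa [hP g hg] at ha, t, ?_⟩
      simp only [hP g hg]
    · rintro ⟨a, ha, t, e⟩
      have hi := hP g⁻¹ (inv_mem hg)
      refine ⟨((g⁻¹ : Sp) : Mat) *ᵥ a, by rw [← B_sp g⁻¹] at ha; rwa [hi] at ha, t, ?_⟩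
      have e' : h = g⁻¹ * qE x a ha t * g⁻¹⁻¹ := by rw [← e]; group
      rw [e', qE_conj]
      simp only [hi]
  have hsup := P.2.to_sup_of_normal_right' (isPGroup_qSub p x) hnorm
  have := P.3 hsup le_sup_left
  exact le_sup_right.trans this.le

/-- An element fixing `x` and centralising all `q(x; a, 0)` is itself some `q(x; b, t)`. -/
theorem eq_qE_of_commute {x : V} (hx : x ≠ 0) {z : Sp} (hzx : (z : Mat) *ᵥ x = x)
    (hc : ∀ (a : V) (h : B x a = 0), Commute z (qE x a h 0)) :
    ∃ (b : V) (h : B x b = 0) (t : F),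
      z = qE x b h t ∧ ∀ a : V, B x a = 0 → 2 * B b a = 0 := by
  obtain ⟨w, hw⟩ := exists_not_orth hx
  have hxw : B x w = -1 := by rw [B_swap, hw]
  set b := (z : Mat) *ᵥ w - w with hb
  have hza : ∀ a : V, B x a = 0 → ∃ k : F, (z : Mat) *ᵥ a = a + k • x := by
    intro a ha
    have e := qE_conj z (x := x) ha (0 : F)
    rw [(hc a ha).eq, mul_inv_cancel_right] at e
    have e' := congrArg (fun g : Sp => (g : Mat) *ᵥ w) e
    simp only [qE_apply, hzx, hw, one_smul, zero_mul, zero_smul, add_zero] at e'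
    refine ⟨B w a - B w ((z : Mat) *ᵥ a), ?_⟩
    linear_combination (norm := module) e'.symm
  have hbx : B x b = 0 := by
    rw [hb, map_sub]
    nth_rewrite 1 [← hzx]
    rw [B_sp, sub_self]
  have hza' : ∀ a : V, B x a = 0 → (z : Mat) *ᵥ a = a + B a b • x := by
    intro a ha
    obtain ⟨k, hk⟩ := hza a ha
    have e := B_sp z a w
    rw [hk, show (z : Mat) *ᵥ w = w + b by rw [hb]; abel] at e
    simp only [map_add, map_smul, LinearMap.add_apply, LinearMap.smul_apply, smul_eq_mul, hxw,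
      hbx] at e
    rw [hk, show k = B a b by linear_combination -e]
  refine ⟨b, hbx, -B w b, sp_ext fun v => ?_, fun a ha => ?_⟩
  · obtain ⟨a, c, hav, ha⟩ : ∃ (a : V) (c : F), v = a + c • w ∧ B x a = 0 :=
      ⟨v - B v x • w, B v x, by module, by
        rw [map_sub, map_smul, smul_eq_mul, hxw, B_swap x v]; ring⟩
    subst hav
    rw [Matrix.mulVec_add, Matrix.mulVec_smul, hza' a ha,
      show (z : Mat) *ᵥ w = w + b by rw [hb]; abel, qE_apply]
    have hax : B a x = 0 := (B_eq_zero_comm _ _).1 ha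
    simp only [map_add, map_smul, LinearMap.add_apply, LinearMap.smul_apply, smul_eq_mul, hax, hw]
    module
  · have e := qE_conj z (x := x) ha (0 : F)
    rw [(hc a ha).eq, mul_inv_cancel_right] at e
    have e' := congrArg (fun g : Sp => (g : Mat) *ᵥ w) e
    simp only [qE_apply, hzx, hw, one_smul, zero_mul, zero_smul, add_zero, hza' a ha, map_add,
      map_smul, smul_eq_mul, mul_one] at e'
    have e'' : (2 * B a b) • x = 0 := by linear_combination (norm := module) -e'
    rw [B_swap b a, mul_neg, (smul_eq_zero.1 e'').resolve_right hx, neg_zero]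

theorem qE_smul_self (x : V) (k t : F) (h : B x (k • x) = 0) :
    qE x (k • x) h t = tr x (t + 2 * k) := sp_ext fun v => by
  simp only [qE_apply, tr_apply, map_smul, smul_eq_mul]
  module

include p in
/-- An automorphism sends a transvection into the centre of a Sylow subgroup. -/
theorem exists_image_qE (φ : MulAut PSpG) {x : V} (hx : x ≠ 0) (c : F) :
    ∃ (y : V) (_ : y ≠ 0) (b : V) (h : B y b = 0) (t : F),
      φ (proj m F (tr x c)) = proj m F (qE y b h t) ∧ ∀ a : V, B y a = 0 → 2 * B b a = 0 := by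
  classical
  obtain ⟨P, hP⟩ := exists_sylow_fix p hx
  let Q : Sylow p PSpG := P.mapSurjective (proj_surjective (m := m) (F := F))
  have hQ : (Q : Subgroup PSpG) = (P : Subgroup Sp).map (proj m F) := rfl
  let Q' : Sylow p PSpG := Q.mapSurjective (f := φ.toMonoidHom) φ.surjective
  have hQ' : (Q' : Subgroup PSpG) = (Q : Subgroup PSpG).map φ.toMonoidHom := rfl
  obtain ⟨g, hg⟩ := MulAction.exists_smul_eq PSpG Q Q'
  set y := φ (proj m F (tr x c)) with hy
  have hxP : tr x c ∈ (P : Subgroup Sp) :=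
    qSub_le_sylow p P hP ⟨0, map_zero _, c, rfl⟩
  -- `g⁻¹ y g` lies in the centre of `Q`
  have hcent : ∀ u ∈ (Q' : Subgroup PSpG), Commute y u := by
    rw [hQ']
    rintro _ ⟨u, hu, rfl⟩
    rw [hQ] at hu
    obtain ⟨v, hv, rfl⟩ := hu
    have e : v * tr x c * v⁻¹ = tr x c := by rw [tr_conj, hP v hv]
    have e' : Commute (tr x c) v := ((mul_inv_eq_iff_eq_mul).1 e).symm
    exact (e'.map (proj m F)).map φ
  have hyQ : y ∈ (Q' : Subgroup PSpG) := by
    rw [hQ']
    exact ⟨_, by rw [hQ]; exact ⟨_, hxP, rfl⟩, rfl⟩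
  have hconj : ∀ u, u ∈ (Q' : Subgroup PSpG) ↔ g⁻¹ * u * g ∈ (Q : Subgroup PSpG) := by
    intro u
    rw [← hg, Sylow.coe_subgroup_smul, Subgroup.mem_pointwise_smul_iff_inv_smul_mem]
    simp [MulAut.smul_def]
  have h1 := (hconj y).1 hyQ
  rw [hQ] at h1
  obtain ⟨z, hzP, hz⟩ := h1
  have hzc : ∀ u ∈ (P : Subgroup Sp), Commute z u := by
    intro u hu
    have hu' : g * proj m F u * g⁻¹ ∈ (Q' : Subgroup PSpG) := by
      rw [hconj]
      exact ⟨u, hu, by group⟩
    have e : Commute (proj m F z) (proj m F u) := by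
      rw [hz]
      have := (hcent _ hu').eq
      show g⁻¹ * y * g * proj m F u = proj m F u * (g⁻¹ * y * g)
      calc g⁻¹ * y * g * proj m F u = g⁻¹ * (y * (g * proj m F u * g⁻¹)) * g := by group
        _ = g⁻¹ * ((g * proj m F u * g⁻¹) * y) * g := by rw [this]
        _ = _ := by group
    obtain ⟨k, hk⟩ := P.2 ⟨u, hu⟩
    have hk' : u ^ p ^ k = 1 := congrArg Subtype.val hk
    refine mul_inv_eq_iff_eq_mul.1 (eq_of_proj_eq p (k := k) (l := k) ?_ hk' ?_)
    · rw [conj_pow, hk', mul_one, mul_inv_cancel]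
    · rw [map_mul, map_mul, map_inv, e.eq, mul_inv_cancel_right]
  obtain ⟨b, hb, t, hzb, h2⟩ := eq_qE_of_commute hx (hP z hzP)
    (fun a ha => hzc _ (qSub_le_sylow p P hP ⟨a, ha, 0, rfl⟩))
  obtain ⟨s, rfl⟩ := proj_surjective g
  refine ⟨(s : Mat) *ᵥ x, fun e => hx (sp_mulVec_injective s (a₁ := x) (a₂ := 0)
    (by simpa using e)), (s : Mat) *ᵥ b, by rw [B_sp]; exact hb, t, ?_, fun a ha => ?_⟩
  · rw [← qE_conj s hb, ← hzb, map_mul, map_mul, map_inv, hz]
    group
  · have ha' : B x (((s⁻¹ : Sp) : Mat) *ᵥ a) = 0 := by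
      rw [← B_sp s, sp_coe_mulVec_inv]; exact ha
    have := h2 _ ha'
    rwa [← B_sp s b, sp_coe_mulVec_inv] at this

/-- In odd characteristic transvections go to transvections. -/
theorem image_tr_odd (hp : p ≠ 2) (φ : MulAut PSpG) {x : V} (hx : x ≠ 0) {c : F} (hc : c ≠ 0) :
    ∃ (y : V) (d : F), y ≠ 0 ∧ d ≠ 0 ∧ φ (proj m F (tr x c)) = proj m F (tr y d) := by
  obtain ⟨y, hy, b, hb, t, e, h2⟩ := exists_image_qE p φ hx c
  have two : (2 : F) ≠ 0 := Ring.two_ne_zero (by rwa [ringChar.eq F p])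
  obtain ⟨k, hk⟩ := exists_smul_of_orth (x := y) (y := b) fun v hv => by
    rw [B_swap, (mul_eq_zero.1 (h2 v ((B_eq_zero_comm _ _).1 hv))).resolve_left two, neg_zero]
  subst hk
  rw [qE_smul_self] at e
  refine ⟨y, _, hy, fun h0 => ?_, e⟩
  rw [h0, tr_zero, map_one] at e
  exact tr_ne_one hx hc (eq_of_proj_eq p (k := 1) (l := 0) (by rw [pow_one]; exact tr_pow_char p x c)
    (by rw [one_pow]) (φ.injective (by rw [e, map_one, map_one])))

end Cfsg.Agent.AutPSp
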