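import Cfsg.Agent.Lib.AutPSp.Basic

/-!
# Orthogonality-preserving maps of symplectic points are semilinear similitudes

If `f` maps non-zero vectors to non-zero vectors and preserves and reflects orthogonality then,
for `m ≥ 2` over a finite field, `f x` is a multiple of `g (σ x)` for a similitude `g` and a field
automorphism `σ`.  The proof is by coordinates and uses only orthogonality.
-/

set_option autoImplicit false

namespace Cfsg.Agent.AutPSp

open Matrix Cfsg.Agent.FormsLib

universe u

variable {m : ℕ} {F : Type u} [Field F]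

local notation "V" => Fin m ⊕ Fin m → F
local notation "ι" => Fin m ⊕ Fin m
local notation "Mat" => Matrix (Fin m ⊕ Fin m) (Fin m ⊕ Fin m) F
local notation "GLV" => GL (Fin m ⊕ Fin m) F
local notation "B" => spB m F

/-- A map on vectors preserving and reflecting orthogonality. -/
def OrthMap (f : V → V) : Prop :=
  (∀ x : V, x ≠ 0 → f x ≠ 0) ∧ ∀ x y : V, x ≠ 0 → y ≠ 0 → (B x y = 0 ↔ B (f x) (f y) = 0)

/-- Unit coordinate vector. -/
def bv (i : ι) : V := Pi.single i 1

theorem bv_ne_zero (i : ι) : (bv i : V) ≠ 0 := by simp [bv]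

/-- The sign of a coordinate in the form. -/
def sgn : ι → F := Sum.elim (fun _ => -1) (fun _ => 1)

theorem sgn_ne_zero (i : ι) : (sgn i : F) ≠ 0 := by cases i <;> simp [sgn]

theorem B_bv (v : V) (i : ι) : B v (bv i) = sgn i.swap * v i.swap := by
  rw [spB_expand]
  cases i <;> simp [bv, sgn, Pi.single_apply, Finset.sum_ite_eq']

theorem bv_swap_apply (i : ι) (v : V) : B v (bv i.swap) = sgn i * v i := by
  rw [B_bv, Sum.swap_swap]

/-- A two-term vector. -/
def pairV (a b : ι) (s t : F) : V := s • bv a + t • bv b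

theorem pairV_apply_left {a b : ι} (h : a ≠ b) (s t : F) : pairV a b s t a = s := by
  simp [pairV, bv, Pi.single_eq_of_ne h]

theorem pairV_apply_right {a b : ι} (h : a ≠ b) (s t : F) : pairV a b s t b = t := by
  simp [pairV, bv, Pi.single_eq_of_ne h.symm]

theorem pairV_apply_other {a b c : ι} (ha : c ≠ a) (hb : c ≠ b) (s t : F) :
    pairV a b s t c = 0 := by
  simp [pairV, bv, Pi.single_eq_of_ne ha, Pi.single_eq_of_ne hb]

theorem B_pairV (v : V) (a b : ι) (s t : F) :
    B v (pairV a b s t) = s * (sgn a.swap * v a.swap) + t * (sgn b.swap * v b.swap) := by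
  simp [pairV, B_bv]

theorem pairV_ne_zero {a b : ι} (h : a ≠ b) {s : F} (hs : s ≠ 0) (t : F) : pairV a b s t ≠ 0 :=
  fun e => hs (by simpa [pairV_apply_left h] using congrFun e a)

theorem eq_pairV {a b : ι} (h : a ≠ b) {v : V} (hv : ∀ c, c ≠ a → c ≠ b → v c = 0) :
    v = pairV a b (v a) (v b) := by
  funext c
  by_cases ha : c = a
  · subst ha; rw [pairV_apply_left h]
  by_cases hb : c = b
  · subst hb; rw [pairV_apply_right h]
  rw [hv c ha hb, pairV_apply_other ha hb]

theorem scalar_mem_GSp (c : Fˣ) :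
    Matrix.GeneralLinearGroup.scalar (Fin m ⊕ Fin m) c ∈ Cfsg.GSp m F := by
  rw [mem_GSp]
  refine ⟨c * c, fun u v => ?_⟩
  simp [Matrix.GeneralLinearGroup.scalar, Matrix.smul_one_eq_diagonal, Matrix.diagonal_const_mulVec,
    mul_assoc]

/-- Semilinear similitudes preserve orthogonality. -/
theorem orth_semilinear (g : Cfsg.GSp m F) (σ : F ≃+* F) (u v : V) :
    B (((g : GLV) : Mat) *ᵥ vmap σ u) (((g : GLV) : Mat) *ᵥ vmap σ v) = 0 ↔ B u v = 0 := by
  rw [mult_spec, B_vmap, Units.mul_right_eq_zero, map_eq_zero]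

section Normalised

variable {f : (Fin m ⊕ Fin m → F) → Fin m ⊕ Fin m → F} (hf : OrthMap f)
  (hfix : ∀ i : Fin m ⊕ Fin m, ∃ c : F, f (bv i) = c • bv i)

include hf hfix

theorem support_iff {x : V} (hx : x ≠ 0) (i : ι) : f x i = 0 ↔ x i = 0 := by
  obtain ⟨c, hc⟩ := hfix i.swap
  have hc0 : c ≠ 0 := by
    rintro rfl
    exact hf.1 _ (bv_ne_zero _) (by simpa using hc)
  have h := hf.2 x (bv i.swap) hx (bv_ne_zero _)
  rw [hc, map_smul, smul_eq_mul, mul_eq_zero, or_iff_right hc0, bv_swap_apply, bv_swap_apply,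
    mul_eq_zero, mul_eq_zero, or_iff_right (sgn_ne_zero i), or_iff_right (sgn_ne_zero i)] at h
  exact h.symm

/-- The image of a two-term vector has the same two-term support. -/
theorem image_pairV {a b : ι} (h : a ≠ b) {s t : F} (hs : s ≠ 0) (ht : t ≠ 0) :
    f (pairV a b s t) = pairV a b (f (pairV a b s t) a) (f (pairV a b s t) b) ∧
      f (pairV a b s t) a ≠ 0 ∧ f (pairV a b s t) b ≠ 0 := by
  have h0 := pairV_ne_zero h hs t
  refine ⟨eq_pairV h fun c ha hb => (support_iff hf hfix h0 c).2 (pairV_apply_other ha hb s t),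
    fun e => hs ?_, fun e => ht ?_⟩
  · simpa [pairV_apply_left h] using (support_iff hf hfix h0 a).1 e
  · simpa [pairV_apply_right h] using (support_iff hf hfix h0 b).1 e

/-- The ratio of two image coordinates depends only on the ratio of the two coordinates. -/
theorem ratio_eq {x z : V} {a b : ι} (h : a ≠ b) (hxa : x a ≠ 0) (hxb : x b ≠ 0) (hza : z a ≠ 0)
    (hr : z b / z a = x b / x a) : f x b / f x a = f z b / f z a := by
  have hx : x ≠ 0 := fun e => hxa (by rw [e]; rfl)
  have hz : z ≠ 0 := fun e => hza (by rw [e]; rfl)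
  have hzb : z b ≠ 0 := by
    intro e
    rw [e, zero_div] at hr
    exact (div_ne_zero hxb hxa) hr.symm
  have hne : a.swap ≠ b.swap := fun e => h (by simpa using congrArg Sum.swap e)
  set u := -(sgn a * x a) / (sgn b * x b) with hu
  have hsb : (sgn b : F) * x b ≠ 0 := mul_ne_zero (sgn_ne_zero b) hxb
  have hu0 : u ≠ 0 := div_ne_zero (neg_ne_zero.2 (mul_ne_zero (sgn_ne_zero a) hxa)) hsb
  set y := pairV a.swap b.swap 1 u with hy
  have hy0 : y ≠ 0 := pairV_ne_zero hne one_ne_zero u
  have hxy : B x y = 0 := by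
    rw [hy, B_pairV, Sum.swap_swap, Sum.swap_swap, hu, div_mul_cancel₀ _ hsb]
    ring
  have hzy : B z y = 0 := by
    rw [hy, B_pairV, Sum.swap_swap, Sum.swap_swap, hu]
    rw [div_eq_div_iff hza hxa] at hr
    field_simp [sgn_ne_zero b, hxb]
    linear_combination (-(sgn a : F)) * hr
  obtain ⟨hfy, hya, hyb⟩ := image_pairV hf hfix hne one_ne_zero hu0
  have e1 := (hf.2 x y hx hy0).1 hxy
  have e2 := (hf.2 z y hz hy0).1 hzy
  rw [← hy] at hfy hya hyb
  rw [hfy, B_pairV, Sum.swap_swap, Sum.swap_swap] at e1 e2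
  have hfa : f x a ≠ 0 := fun e => hxa ((support_iff hf hfix hx a).1 e)
  have hfza : f z a ≠ 0 := fun e => hza ((support_iff hf hfix hz a).1 e)
  rw [div_eq_div_iff hfa hfza]
  apply mul_left_cancel₀ (mul_ne_zero hyb (sgn_ne_zero b))
  linear_combination (f z a) * e1 - (f x a) * e2

end Normalised

variable [Finite F]

/-- Orthogonality-preserving maps which fix the coordinate points. -/
theorem exists_semilinear_of_fix (hm : 2 ≤ m) {f : V → V} (hf : OrthMap f)
    (hfix : ∀ i : ι, ∃ c : F, f (bv i) = c • bv i) :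
    ∃ (g : Cfsg.GSp m F) (σ : F ≃+* F), ∀ x : V, x ≠ 0 →
      ∃ c : F, f x = c • (((g : GLV) : Mat) *ᵥ vmap σ x) := by
  classical
  let one : V := fun _ => 1
  obtain ⟨i0, i1, hi01⟩ : ∃ i j : Fin m, i ≠ j :=
    ⟨⟨0, by omega⟩, ⟨1, by omega⟩, by simp [Fin.ext_iff]⟩
  have hone : one ≠ 0 := fun e => one_ne_zero (congrFun e (.inl i0))
  let d : V := f one
  have hd : ∀ i, d i ≠ 0 := fun i e => one_ne_zero ((support_iff hf hfix hone i).1 e)
  -- the normalised ratio maps
  let G : ι → ι → F → F := fun a b t => (f (pairV a b 1 t) b / f (pairV a b 1 t) a) * (d a / d b)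
  have hG : ∀ {a b : ι}, a ≠ b → ∀ {x : V}, x a ≠ 0 → x b ≠ 0 →
      f x b / f x a * (d a / d b) = G a b (x b / x a) := by
    intro a b h x hxa hxb
    have e := ratio_eq hf hfix (z := pairV a b 1 (x b / x a)) h hxa hxb
      (by rw [pairV_apply_left h]; exact one_ne_zero)
      (by rw [pairV_apply_left h, pairV_apply_right h, div_one])
    rw [e]
  have hG1 : ∀ {a b : ι}, a ≠ b → G a b 1 = 1 := by
    intro a b h
    have e := hG h (x := one) one_ne_zero one_ne_zero
    rw [show one b / one a = (1 : F) from div_one 1] at e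
    rw [← e]
    field_simp [hd a, hd b]
    show f one b * f one a / f one a = f one b
    exact mul_div_cancel_right₀ _ (hd a)
  have hG0 : ∀ {a b : ι}, a ≠ b → ∀ {t : F}, t ≠ 0 → G a b t ≠ 0 := by
    intro a b h t ht
    obtain ⟨-, ha, hb⟩ := image_pairV hf hfix h one_ne_zero ht
    exact mul_ne_zero (div_ne_zero hb ha) (div_ne_zero (hd a) (hd b))
  have hcoc : ∀ {a b c : ι}, a ≠ b → b ≠ c → a ≠ c → ∀ {s t : F}, s ≠ 0 → t ≠ 0 →
      G a c (s * t) = G a b s * G b c t := by
    intro a b c hab hbc hac s t hs ht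
    let x : V := fun i => if i = a then 1 else if i = b then s else s * t
    have xa : x a = 1 := by simp [x]
    have xb : x b = s := by simp [x, hab.symm]
    have xc : x c = s * t := by simp [x, hac.symm, hbc.symm]
    have hx : x ≠ 0 := fun e => one_ne_zero (xa.symm.trans (congrFun e a))
    have e1 := hG hab (x := x) (by rw [xa]; exact one_ne_zero) (by rw [xb]; exact hs)
    have e2 := hG hbc (x := x) (by rw [xb]; exact hs) (by rw [xc]; exact mul_ne_zero hs ht)
    have e3 := hG hac (x := x) (by rw [xa]; exact one_ne_zero)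
      (by rw [xc]; exact mul_ne_zero hs ht)
    rw [xa, xb, div_one] at e1
    rw [xb, xc, mul_div_assoc, mul_comm s (t / s), div_mul_cancel₀ _ hs] at e2
    rw [xa, xc, div_one] at e3
    rw [← e1, ← e2, ← e3]
    have hfb : f x b ≠ 0 := fun e => hs (xb.symm.trans ((support_iff hf hfix hx b).1 e))
    field_simp [hd b, hfb]
  have third : ∀ a b : ι, ∃ c, a ≠ c ∧ b ≠ c := by
    intro a b
    have h4 : (({a, b} : Finset ι)).card < (Finset.univ : Finset ι).card := by
      rw [Finset.card_univ, Fintype.card_sum, Fintype.card_fin]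
      exact lt_of_le_of_lt Finset.card_le_two (by omega)
    obtain ⟨c, -, hc⟩ := Finset.exists_mem_notMem_of_card_lt_card h4
    simp only [Finset.mem_insert, Finset.mem_singleton, not_or] at hc
    exact ⟨c, Ne.symm hc.1, Ne.symm hc.2⟩
  -- all ratio maps agree
  have hr : ∀ {a b c : ι}, a ≠ b → b ≠ c → a ≠ c → ∀ {t : F}, t ≠ 0 → G b c t = G a c t := by
    intro a b c hab hbc hac t ht
    have e := hcoc hab hbc hac (one_ne_zero (α := F)) ht
    rwa [one_mul, hG1 hab, one_mul, eq_comm] at e
  have hl : ∀ {a b c : ι}, a ≠ b → b ≠ c → a ≠ c → ∀ {t : F}, t ≠ 0 → G a b t = G a c t := by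
    intro a b c hab hbc hac t ht
    have e := hcoc hab hbc hac ht (one_ne_zero (α := F))
    rwa [mul_one, hG1 hbc, mul_one, eq_comm] at e
  set A : ι := .inl i0
  set A' : ι := .inl i1
  have hAA : A ≠ A' := by simp [A, A', hi01]
  let h : F → F := fun t => if t = 0 then 0 else G A A' t
  have hall : ∀ {a b : ι}, a ≠ b → ∀ {t : F}, t ≠ 0 → G a b t = h t := by
    intro a b hab t ht
    simp only [h, if_neg ht]
    -- first move the target to a common point, then the sources
    have swapsrc : ∀ {a a' b : ι}, a ≠ b → a' ≠ b → G a b t = G a' b t := by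
      intro a a' b h1 h2
      by_cases e : a = a'
      · rw [e]
      · exact hr (Ne.symm e) h1 h2 ht
    have swaptgt : ∀ {a b b' : ι}, a ≠ b → a ≠ b' → G a b t = G a b' t := by
      intro a b b' h1 h2
      by_cases e : b = b'
      · rw [e]
      · exact hl h1 e h2 ht
    obtain ⟨c, hc1, hc2⟩ := third a A
    rw [swaptgt hab hc1, swapsrc hc1 hc2, swaptgt hc2 hAA]
  have hmul : ∀ s t : F, h (s * t) = h s * h t := by
    intro s t
    by_cases hs : s = 0
    · simp [h, hs]
    by_cases ht : t = 0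
    · simp [h, ht]
    obtain ⟨c, hc1, hc2⟩ := third A A'
    have e := hcoc hAA hc2 hc1 hs ht
    rwa [hall hAA hs, hall hc2 ht, hall hc1 (mul_ne_zero hs ht)] at e
  have h1 : h 1 = 1 := by rw [← hall hAA one_ne_zero]; exact hG1 hAA
  have hne : ∀ {t : F}, t ≠ 0 → h t ≠ 0 := fun ht => by rw [← hall hAA ht]; exact hG0 hAA ht
  -- coordinates of all images
  have hcoord : ∀ x : V, x ≠ 0 → ∀ a, x a ≠ 0 →
      ∀ b, f x b = (f x a / (d a * h (x a))) * (d b * h (x b)) := by
    intro x hx a hxa b
    have hfa : f x a ≠ 0 := fun e => hxa ((support_iff hf hfix hx a).1 e)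
    by_cases hab : a = b
    · subst hab
      rw [div_mul_cancel₀ _ (mul_ne_zero (hd a) (hne hxa))]
    · by_cases hxb : x b = 0
      · rw [(support_iff hf hfix hx b).2 hxb, hxb]
        simp [h]
      · have e := hG hab hxa hxb
        rw [hall hab (div_ne_zero hxb hxa)] at e
        have h' : h (x b) = h (x b / x a) * h (x a) := by rw [← hmul, div_mul_cancel₀ _ hxa]
        rw [h', ← e]
        field_simp [hd a, hd b, hne hxa, hfa]
  have hB : ∀ u v : V, u ≠ 0 → v ≠ 0 → B u v = 0 →
      B (fun i => d i * h (u i)) (fun i => d i * h (v i)) = 0 := by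
    intro u v hu hv huv
    obtain ⟨a, ha⟩ := Function.ne_iff.1 hu
    obtain ⟨b, hb⟩ := Function.ne_iff.1 hv
    have eu : f u = (f u a / (d a * h (u a))) • fun i => d i * h (u i) :=
      funext (hcoord u hu a ha)
    have ev : f v = (f v b / (d b * h (v b))) • fun i => d i * h (v i) :=
      funext (hcoord v hv b hb)
    have e := (hf.2 u v hu hv).1 huv
    rw [eu, ev] at e
    simp only [map_smul, LinearMap.smul_apply, smul_eq_mul, mul_eq_zero] at e
    have cu : f u a / (d a * h (u a)) ≠ 0 :=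
      div_ne_zero (fun e0 => ha ((support_iff hf hfix hu a).1 e0)) (mul_ne_zero (hd a) (hne ha))
    have cv : f v b / (d b * h (v b)) ≠ 0 :=
      div_ne_zero (fun e0 => hb ((support_iff hf hfix hv b).1 e0)) (mul_ne_zero (hd b) (hne hb))
    tauto
  have h0 : h 0 = 0 := if_pos rfl
  -- injectivity of `h` on the units
  have hinj : ∀ t : F, t ≠ 0 → h t = 1 → t = 1 := by
    intro t ht e
    by_contra htne
    set y := pairV (Sum.inr i0 : ι) (.inr i1) 1 (-1 : F) with hy
    have hy' : (Sum.inr i0 : ι) ≠ .inr i1 := by simp [hi01]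
    have hy0 : y ≠ 0 := pairV_ne_zero hy' one_ne_zero _
    have hp0 : pairV A A' 1 t ≠ 0 := pairV_ne_zero hAA one_ne_zero t
    have hq0 : pairV A A' 1 (1 : F) ≠ 0 := pairV_ne_zero hAA one_ne_zero 1
    have hq : B (pairV A A' 1 (1 : F)) y = 0 := by
      rw [hy, B_pairV]
      simp only [Sum.swap_inr]
      rw [pairV_apply_left hAA, pairV_apply_right hAA]
      simp [sgn]
    have hp : B (pairV A A' 1 t) y ≠ 0 := by
      rw [hy, B_pairV]
      simp only [Sum.swap_inr]
      rw [pairV_apply_left hAA, pairV_apply_right hAA]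
      simp [sgn]
      exact fun e0 => htne (by linear_combination e0)
    apply hp
    rw [hf.2 _ _ hp0 hy0]
    have hfq := (hf.2 _ _ hq0 hy0).1 hq
    have cp : f (pairV A A' 1 t) = (f (pairV A A' 1 t) A / (d A * h 1)) •
        fun i => d i * h (pairV A A' 1 t i) := funext fun i => by
      have := hcoord _ hp0 A (by rw [pairV_apply_left hAA]; exact one_ne_zero) i
      rwa [pairV_apply_left hAA] at this
    have cq : f (pairV A A' 1 1) = (f (pairV A A' 1 1) A / (d A * h 1)) •
        fun i => d i * h (pairV A A' 1 1 i) := funext fun i => by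
      have := hcoord _ hq0 A (by rw [pairV_apply_left hAA]; exact one_ne_zero) i
      rwa [pairV_apply_left hAA] at this
    have same : (fun i => d i * h (pairV A A' 1 t i)) = fun i => d i * h (pairV A A' 1 (1 : F) i) := by
      funext i
      by_cases hA : i = A
      · subst hA; rw [pairV_apply_left hAA, pairV_apply_left hAA]
      by_cases hA' : i = A'
      · subst hA'; rw [pairV_apply_right hAA, pairV_apply_right hAA, e, h1]
      rw [pairV_apply_other hA hA', pairV_apply_other hA hA']
    rw [cp, same, map_smul, LinearMap.smul_apply, smul_eq_mul, mul_eq_zero]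
    rw [cq, map_smul, LinearMap.smul_apply, smul_eq_mul, mul_eq_zero] at hfq
    refine Or.inr (hfq.resolve_left (div_ne_zero ?_ (mul_ne_zero (hd A) (hne one_ne_zero))))
    intro e0
    exact one_ne_zero ((pairV_apply_left hAA 1 (1 : F)).symm.trans ((support_iff hf hfix hq0 A).1 e0))
  have hneg : h (-1) = -1 := by
    have hsq : h (-1) * h (-1) = 1 := by rw [← hmul, neg_one_mul, neg_neg, h1]
    rcases mul_self_eq_one_iff.1 hsq with e | e
    · have h2 := hinj (-1) (neg_ne_zero.2 one_ne_zero) e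
      rw [e]
      exact h2.symm
    · exact e
  -- the multiplier
  have hmult : ∀ i j : Fin m, d (.inl i) * d (.inr i) = d (.inl j) * d (.inr j) := by
    intro i j
    by_cases hij : i = j
    · rw [hij]
    have hne1 : (Sum.inl i : ι) ≠ .inl j := by simp [hij]
    have hne2 : (Sum.inr i : ι) ≠ .inr j := by simp [hij]
    have e := hB _ _ (pairV_ne_zero hne1 one_ne_zero (1 : F))
      (pairV_ne_zero hne2 one_ne_zero (-1 : F)) (by
        rw [B_pairV]
        simp only [Sum.swap_inr]
        rw [pairV_apply_left hne1, pairV_apply_right hne1]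
        simp [sgn])
    rw [show (fun k => d k * h (pairV (Sum.inr i : ι) (.inr j) 1 (-1) k)) =
        pairV (Sum.inr i : ι) (.inr j) (d (.inr i)) (-d (.inr j)) from funext fun k => by
      by_cases hk : k = .inr i
      · subst hk; rw [pairV_apply_left hne2, pairV_apply_left hne2, h1, mul_one]
      by_cases hk' : k = .inr j
      · subst hk'; rw [pairV_apply_right hne2, pairV_apply_right hne2, hneg]; ring
      rw [pairV_apply_other hk hk', pairV_apply_other hk hk', h0, mul_zero]] at e
    rw [B_pairV] at e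
    simp only [Sum.swap_inr] at e
    rw [pairV_apply_left hne1, pairV_apply_right hne1, h1] at e
    simp [sgn] at e
    linear_combination -e
  -- additivity
  set μ := d (.inl i0) * d (.inr i0) with hμ
  have hμ0 : μ ≠ 0 := mul_ne_zero (hd _) (hd _)
  have hadd : ∀ s t : F, h (s + t) = h s + h t := by
    intro s t
    let x : V := pairV (.inl i0) (.inl i1) 1 s + (s + t) • bv (.inr i0)
    let y : V := pairV (.inl i0) (.inr i1) 1 1 + t • bv (.inr i0)
    have x0 : x (.inl i0) = 1 := by simp [x, bv, pairV, hi01, hi01.symm]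
    have y0 : y (.inl i0) = 1 := by simp [y, bv, pairV, hi01, hi01.symm]
    have hx0 : x ≠ 0 := fun e => one_ne_zero (x0.symm.trans (congrFun e _))
    have hy0 : y ≠ 0 := fun e => one_ne_zero (y0.symm.trans (congrFun e _))
    have ev : ∀ (u v : V), (∀ k, k ≠ i0 → k ≠ i1 →
        u (.inl k) = 0 ∧ u (.inr k) = 0 ∧ v (.inl k) = 0 ∧ v (.inr k) = 0) →
        B u v = (u (.inr i0) * v (.inl i0) - u (.inl i0) * v (.inr i0)) +
          (u (.inr i1) * v (.inl i1) - u (.inl i1) * v (.inr i1)) := by
      intro u v huv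
      rw [spB_expand, Fintype.sum_eq_add i0 i1 hi01]
      rintro k ⟨hk0, hk1⟩
      obtain ⟨a1, a2, a3, a4⟩ := huv k hk0 hk1
      simp [a1, a2, a3, a4]
    have hxy : B x y = 0 := by
      rw [ev x y (fun k h0 h1 => by simp [x, y, bv, pairV, h0, h1])]
      simp [x, y, bv, pairV, hi01, hi01.symm]
    have e := hB x y hx0 hy0 hxy
    rw [ev _ _ (fun k hk0 hk1 => by simp [x, y, bv, pairV, hk0, hk1, h0])] at e
    simp [x, y, bv, pairV, hi01, hi01.symm, h1, h0] at e
    have hm' := hmult i1 i0
    have key : μ * (h (s + t) - (h s + h t)) = 0 := by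
      rw [hμ]
      linear_combination e + h s * hm'
    exact sub_eq_zero.1 ((mul_eq_zero.1 key).resolve_left hμ0)
  let σ₀ : F →+* F :=
    { toFun := h, map_one' := h1, map_mul' := hmul, map_zero' := h0, map_add' := hadd }
  let σ : F ≃+* F := RingEquiv.ofBijective σ₀ (Finite.injective_iff_bijective.1 σ₀.injective)
  -- the similitude
  let D : GLV :=
    { val := Matrix.diagonal d
      inv := Matrix.diagonal fun i => (d i)⁻¹
      val_inv := by simp [Matrix.diagonal_mul_diagonal, mul_inv_cancel₀ (hd _)]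
      inv_val := by simp [Matrix.diagonal_mul_diagonal, inv_mul_cancel₀ (hd _)] }
  have hD : D ∈ Cfsg.GSp m F := by
    rw [mem_GSp]
    refine ⟨Units.mk0 μ hμ0, fun u v => ?_⟩
    simp only [D, spB_expand, Matrix.mulVec_diagonal, Units.val_mk0, Finset.mul_sum]
    refine Finset.sum_congr rfl fun k _ => ?_
    linear_combination (u (.inr k) * v (.inl k) - u (.inl k) * v (.inr k)) * hmult k i0
  refine ⟨⟨D, hD⟩, σ, fun x hx => ?_⟩
  obtain ⟨a, ha⟩ := Function.ne_iff.1 hx
  refine ⟨f x a / (d a * h (x a)), funext fun b => ?_⟩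
  rw [hcoord x hx a ha b, Pi.smul_apply, smul_eq_mul]
  congr 1
  show d b * h (x b) = ((Matrix.diagonal d) *ᵥ vmap σ x) b
  rw [Matrix.mulVec_diagonal]
  rfl

/-- The fundamental theorem for orthogonality-preserving maps of symplectic points. -/
theorem exists_semilinear (hm : 2 ≤ m) {f : V → V} (hf : OrthMap f) :
    ∃ (g : Cfsg.GSp m F) (σ : F ≃+* F), ∀ x : V, x ≠ 0 →
      ∃ c : F, c ≠ 0 ∧ f x = c • (((g : GLV) : Mat) *ᵥ vmap σ x) := by
  classical
  let v : ι → V := fun i => f (bv i)
  have hvv : ∀ i j, B (v i) (v j) = 0 ↔ j ≠ i.swap := by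
    intro i j
    rw [← hf.2 _ _ (bv_ne_zero i) (bv_ne_zero j), B_bv, mul_eq_zero,
      or_iff_right (sgn_ne_zero _)]
    simp [bv, Pi.single_apply]
    constructor
    · rintro h rfl; exact h (Sum.swap_swap i)
    · intro h e; exact h (by rw [← e, Sum.swap_swap])
  let κ : Fin m → F := fun i => B (v (.inr i)) (v (.inl i))
  have hκ : ∀ i, κ i ≠ 0 := fun i => by
    rw [Ne, hvv]
    simp
  let w : ι → V := Sum.elim (fun i => v (.inl i)) (fun i => (κ i)⁻¹ • v (.inr i))
  let A : Mat := Matrix.of fun a b => w b a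
  have hAb : ∀ i, A *ᵥ bv i = w i := fun i => by
    funext a
    simp [A, bv]
  have hw : ∀ i j, B (w i) (w j) = B (bv i : V) (bv j) := by
    intro i j
    rw [B_bv (bv i : V)]
    rcases i with i | i <;> rcases j with j | j <;>
      simp [w, sgn, bv, Pi.single_apply]
    · exact (hvv _ _).2 (by simp)
    · by_cases e : j = i
      · subst e
        have hB0 : B (v (.inl j)) (v (.inr j)) ≠ 0 := by rw [Ne, hvv]; simp
        simp [κ, B_swap (v (.inr j)), inv_neg, inv_mul_cancel₀ hB0]
      · simp [e, Ne.symm e, (hvv (.inl i) (.inr j)).2 (by simpa using e)]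
    · by_cases e : j = i
      · subst e
        simpa [κ] using inv_mul_cancel₀ (hκ j)
      · simp [e, Ne.symm e, (hvv (.inr i) (.inl j)).2 (by simpa using e)]
    · simp [(hvv (.inr i) (.inr j)).2 (by simp)]
  have hlin : ∀ u : V, u = ∑ i, u i • bv i := fun u => by
    funext a
    simp [bv, Pi.single_apply, Finset.sum_ite_eq]
  have hA : A ∈ Matrix.symplecticGroup (Fin m) F := by
    rw [mem_symplectic_iff]
    intro u u'
    rw [hlin u, hlin u']
    simp only [Matrix.mulVec_sum, Matrix.mulVec_smul, map_sum, LinearMap.sum_apply, map_smul,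
      LinearMap.smul_apply, hAb, hw]
  let s : Matrix.symplecticGroup (Fin m) F := ⟨A, hA⟩
  let f' : V → V := fun x => ((s⁻¹ : Matrix.symplecticGroup (Fin m) F) : Mat) *ᵥ f x
  have hf' : OrthMap f' := by
    refine ⟨fun x hx e => hf.1 x hx ?_, fun x y hx hy => ?_⟩
    · exact sp_mulVec_injective s⁻¹ (a₁ := f x) (a₂ := 0) (by simpa [f'] using e)
    · simp only [f', B_sp]
      exact hf.2 x y hx hy
  have hfix : ∀ i : ι, ∃ c : F, f' (bv i) = c • bv i := by
    intro i
    refine ⟨i.elim (fun _ => 1) (fun k => κ k), ?_⟩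
    apply sp_mulVec_injective s
    show (s : Mat) *ᵥ (((s⁻¹ : Matrix.symplecticGroup (Fin m) F) : Mat) *ᵥ f (bv i)) =
      (s : Mat) *ᵥ _
    rw [sp_coe_mulVec_inv, Matrix.mulVec_smul]
    show f (bv i) = _ • (A *ᵥ bv i)
    rw [hAb]
    rcases i with i | i
    · simp [w, v]
    · simp [w, v, smul_smul, mul_inv_cancel₀ (hκ i)]
  obtain ⟨g, σ, hg⟩ := exists_semilinear_of_fix hm hf' hfix
  let sg : GLV :=
    { val := A
      inv := ((s⁻¹ : Matrix.symplecticGroup (Fin m) F) : Mat)
      val_inv := congrArg Subtype.val (mul_inv_cancel s)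
      inv_val := congrArg Subtype.val (inv_mul_cancel s) }
  have hsg : sg ∈ Cfsg.GSp m F :=
    mem_GSp.2 ⟨1, fun u u' => by rw [Units.val_one, one_mul]; exact B_sp s u u'⟩
  refine ⟨⟨sg, hsg⟩ * g, σ, fun x hx => ?_⟩
  obtain ⟨c, hc⟩ := hg x hx
  refine ⟨c, ?_, ?_⟩
  · rintro rfl
    exact hf'.1 x hx (by simpa using hc)
  · have e := congrArg (fun u => (s : Mat) *ᵥ u) hc
    simp only [f', sp_coe_mulVec_inv, Matrix.mulVec_smul] at e
    rw [e, Matrix.mulVec_mulVec]
    rfl

end Cfsg.Agent.AutPSp
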