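import Cfsg.Agent.Lib.AutPSp.FourOut
import Cfsg.Agent.Lib.AutPSL.TwistedClasses

/-!
# Cosets of field automorphisms of `PSp_{2m}`

Conjugacy of the elements of order `r` in such a coset (descent for similitudes), centralisers,
and the splitting of the class under inner automorphisms.
-/

set_option autoImplicit false

namespace Cfsg.Agent.AutPSp

open Matrix Cfsg.Agent.FormsLib
open scoped Pointwise
open Cfsg.Agent.AutPSL (cyc uMap map_cyc cyc_comm cyc_mul_central)

universe u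

section Generic

variable {G X : Type*} [Group G] [Group X]

/-- The elements of `G` whose image commutes with `x`. -/
def commSub (φ : G →* X) (x : X) : Subgroup G := (Subgroup.centralizer {x}).comap φ

theorem mem_commSub {φ : G →* X} {x : X} {g : G} : g ∈ commSub φ x ↔ Commute (φ g) x :=
  Subgroup.mem_centralizer_singleton_iff

/-- The classes under the image of a normal subgroup `N` inside the class of `x` under the image
of `G`. -/
theorem splitClassCount_eq_index (φ : G →* X) (N : Subgroup G) [N.Normal] (x : X) :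
    Cfsg.splitClassCount φ.range (N.map φ) x = (N ⊔ commSub φ x).index := by
  have key : ∀ g g' : G, φ g * x * (φ g)⁻¹ = φ g' * x * (φ g')⁻¹ → g⁻¹ * g' ∈ commSub φ x := by
    intro g g' h
    rw [mem_commSub, commute_iff_eq, map_mul, map_inv]
    have h2 := congrArg (fun z => (φ g)⁻¹ * z * φ g') h
    simp only [mul_assoc, inv_mul_cancel_left, inv_mul_cancel, mul_one] at h2
    simpa [mul_assoc] using h2.symm
  let f : G ⧸ (N ⊔ commSub φ x) →
      Quot fun y z : {y : X // Cfsg.IsConjUnder φ.range x y} => Cfsg.IsConjUnder (N.map φ) y.1 z.1 :=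
    fun q => Quotient.liftOn' q
      (fun g => Quot.mk _ ⟨φ g * x * (φ g)⁻¹, φ g, ⟨g, rfl⟩, rfl⟩) fun g g' h => by
        rw [QuotientGroup.leftRel_apply] at h
        have h' : g⁻¹ * g' ∈ ((N : Set G) * (commSub φ x : Set G)) := by
          rw [← Subgroup.normal_mul]; exact h
        obtain ⟨n, hn, c, hc, e⟩ := h'
        have hc' : φ c * x * (φ c)⁻¹ = x := by
          rw [(mem_commSub.1 hc).eq, mul_inv_cancel_right]
        refine Quot.sound ⟨φ (g * n * g⁻¹),
          ⟨_, Subgroup.Normal.conj_mem inferInstance n hn g, rfl⟩, ?_⟩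
        have e' : g' = g * n * c := by rw [mul_assoc, show n * c = g⁻¹ * g' from e, mul_inv_cancel_left]
        show φ g' * x * (φ g')⁻¹ = φ (g * n * g⁻¹) * (φ g * x * (φ g)⁻¹) * (φ (g * n * g⁻¹))⁻¹
        rw [e']
        conv_rhs => rw [← hc']
        simp only [map_mul, map_inv, _root_.mul_inv_rev, inv_inv, mul_assoc, inv_mul_cancel_left]
  show Nat.card _ = Nat.card (G ⧸ (N ⊔ commSub φ x))
  refine (Nat.card_congr (Equiv.ofBijective f ⟨?_, ?_⟩)).symm
  · intro a b
    induction a using Quotient.inductionOn' with | _ g => ?_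
    induction b using Quotient.inductionOn' with | _ g' => ?_
    intro h
    apply Quotient.sound'
    rw [QuotientGroup.leftRel_apply]
    have hrel : ∀ y z, Relation.EqvGen
        (fun y z : {y : X // Cfsg.IsConjUnder φ.range x y} => Cfsg.IsConjUnder (N.map φ) y.1 z.1)
        y z → ∃ n ∈ N, z.1 = φ n * y.1 * (φ n)⁻¹ := by
      intro y z h
      induction h with
      | rel a b h => obtain ⟨_, ⟨n, hn, rfl⟩, e⟩ := h; exact ⟨n, hn, e⟩
      | refl a => exact ⟨1, one_mem N, by simp⟩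
      | symm a b _ ih =>
        obtain ⟨n, hn, e⟩ := ih
        exact ⟨n⁻¹, inv_mem hn, by rw [e]; simp [mul_assoc]⟩
      | trans a b c _ _ ih1 ih2 =>
        obtain ⟨n, hn, e⟩ := ih1
        obtain ⟨k, hk, e'⟩ := ih2
        exact ⟨k * n, mul_mem hk hn, by rw [e', e]; simp [mul_assoc]⟩
    obtain ⟨n, hn, e⟩ := hrel _ _ (Quot.eqvGen_exact h)
    have h1 := key (n * g) g' (by
      show φ (n * g) * x * (φ (n * g))⁻¹ = φ g' * x * (φ g')⁻¹
      rw [show φ g' * x * (φ g')⁻¹ = φ n * (φ g * x * (φ g)⁻¹) * (φ n)⁻¹ from e]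
      simp [mul_assoc])
    have : g⁻¹ * g' = (g⁻¹ * n * g) * ((n * g)⁻¹ * g') := by group
    rw [this]
    exact mul_mem (Subgroup.mem_sup_left (Subgroup.Normal.conj_mem' inferInstance n hn g))
      (Subgroup.mem_sup_right h1)
  · intro q
    induction q using Quot.ind with | _ y => ?_
    obtain ⟨y, h, ⟨g, rfl⟩, rfl⟩ := y
    exact ⟨QuotientGroup.mk g, rfl⟩

/-- The index of `ker χ ⊔ C` is the index of the image of `C`, for surjective `χ`. -/
theorem index_ker_sup {A : Type*} [Group A] (χ : G →* A) (hχ : Function.Surjective χ)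
    (C : Subgroup G) : (χ.ker ⊔ C).index = (C.map χ).index := by
  rw [← Subgroup.index_comap_of_surjective (C.map χ) hχ, Subgroup.comap_map_eq, sup_comm]

end Generic

variable {m : ℕ} {F : Type u} [Field F]

local notation "V" => Fin m ⊕ Fin m → F
local notation "Sp" => Matrix.symplecticGroup (Fin m) F
local notation "PSpG" => Cfsg.PSp m F
local notation "Mat" => Matrix (Fin m ⊕ Fin m) (Fin m ⊕ Fin m) F
local notation "GLV" => GL (Fin m ⊕ Fin m) F
local notation "B" => spB m F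

/-- `σ` on `GL`. -/
def glF (σ : F ≃+* F) : GLV →* GLV := Matrix.GeneralLinearGroup.map (σ : F →+* F)

theorem glF_coe (σ : F ≃+* F) (g : GLV) : (glF σ g : Mat) = (g : Mat).map σ := rfl

theorem glF_apply (σ : F ≃+* F) (g : GLV) (v : V) :
    (glF σ g : Mat) *ᵥ vmap σ v = vmap σ ((g : Mat) *ᵥ v) := vmap_mulVec σ _ v

theorem glF_mem (σ : F ≃+* F) (g : Cfsg.GSp m F) : glF σ (g : GLV) ∈ Cfsg.GSp m F := by
  rw [mem_GSp]
  refine ⟨uMap σ (mult g), fun u v => ?_⟩
  obtain ⟨u, rfl⟩ := vmap_surjective σ u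
  obtain ⟨v, rfl⟩ := vmap_surjective σ v
  rw [glF_apply, glF_apply, B_vmap, B_vmap, mult_spec, map_mul]
  rfl

/-- `σ` on similitudes. -/
def gF (σ : F ≃+* F) : Cfsg.GSp m F →* Cfsg.GSp m F where
  toFun g := ⟨glF σ g, glF_mem σ g⟩
  map_one' := Subtype.ext (map_one (glF σ))
  map_mul' g h := Subtype.ext (map_mul (glF σ) _ _)

theorem mult_eq_of (hm : 1 ≤ m) (g : Cfsg.GSp m F) (c : Fˣ)
    (h : ∀ u v : V, B (((g : GLV) : Mat) *ᵥ u) (((g : GLV) : Mat) *ᵥ v) = c * B u v) :
    mult g = c := by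
  obtain ⟨w, hw⟩ := exists_not_orth (bv_ne_zero (F := F) (.inl (⟨0, hm⟩ : Fin m)))
  have e := mult_spec g w (bv (.inl ⟨0, hm⟩))
  rw [h, hw, mul_one, mul_one] at e
  exact Units.ext e.symm

theorem multHom_gF (hm : 1 ≤ m) (σ : F ≃+* F) (g : Cfsg.GSp m F) :
    multHom hm (gF σ g) = uMap σ (multHom hm g) := by
  refine mult_eq_of hm _ _ fun u v => ?_
  obtain ⟨u, rfl⟩ := vmap_surjective σ u
  obtain ⟨v, rfl⟩ := vmap_surjective σ v
  show B ((glF σ (g : GLV) : Mat) *ᵥ _) ((glF σ (g : GLV) : Mat) *ᵥ _) = _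
  rw [glF_apply, glF_apply, B_vmap, B_vmap, mult_spec, map_mul]
  rfl

/-- Scalars among the similitudes. -/
def scalG : Fˣ →* Cfsg.GSp m F :=
  (Matrix.GeneralLinearGroup.scalar (Fin m ⊕ Fin m) : Fˣ →* GLV).codRestrict _ scalar_mem_GSp

theorem scalG_coe (c : Fˣ) : (((scalG c : Cfsg.GSp m F) : GLV) : Mat) = (c : F) • 1 := by
  simp [scalG, Matrix.GeneralLinearGroup.scalar, Matrix.smul_one_eq_diagonal]

theorem scalG_central (c : Fˣ) (g : Cfsg.GSp m F) : g * scalG c = scalG c * g := by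
  apply Subtype.ext
  apply Units.ext
  simp [scalG_coe, Units.val_mul]

theorem scalG_mem_center (c : Fˣ) : (scalG c : Cfsg.GSp m F) ∈ Subgroup.center (Cfsg.GSp m F) :=
  Subgroup.mem_center_iff.2 fun g => scalG_central c g

theorem scalG_injective (hm : 1 ≤ m) : Function.Injective (scalG (m := m) (F := F)) := by
  intro a b h
  have h' := congrArg (fun g : Cfsg.GSp m F =>
    ((g : GLV) : Mat) (.inl ⟨0, hm⟩) (.inl ⟨0, hm⟩)) h
  simp [scalG_coe] at h'
  exact Units.ext h'

theorem gF_scalG (σ : F ≃+* F) (c : Fˣ) : gF σ (scalG c) = (scalG (uMap σ c) : Cfsg.GSp m F) := by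
  apply Subtype.ext
  apply Units.ext
  show ((glF σ ((scalG c : Cfsg.GSp m F) : GLV) : GLV) : Mat) = _
  rw [glF_coe, scalG_coe, scalG_coe]
  ext i j
  simp [uMap, Matrix.one_apply, apply_ite σ]

theorem multHom_scalG (hm : 1 ≤ m) (c : Fˣ) : multHom (F := F) hm (scalG c) = c * c := by
  refine mult_eq_of hm _ _ fun u v => ?_
  simp [scalG_coe, Matrix.smul_mulVec, mul_assoc]

/-- The standard field automorphism. -/
noncomputable def stdF (σ : F ≃+* F) : MulAut PSpG := descend (fld σ)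

theorem stdF_cj (σ : F ≃+* F) (g : Cfsg.GSp m F) :
    stdF σ * descend (cj g) = descend (cj (gF σ g)) * stdF σ := by
  rw [stdF, ← map_mul, ← map_mul]
  congr 1
  refine MulEquiv.ext fun s => Subtype.ext ?_
  rw [MulAut.mul_apply, MulAut.mul_apply, fld_coe, cj_coe, cj_coe, fld_coe, Matrix.map_mul,
    Matrix.map_mul]
  rfl

theorem stdF_pow (σ : F ≃+* F) : ∀ i, (stdF σ : MulAut PSpG) ^ i = stdF (σ ^ i)
  | 0 => by rw [pow_zero, pow_zero, stdF, show (1 : F ≃+* F) = RingEquiv.refl F from rfl, fld_one, map_one]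
  | i + 1 => by
    rw [pow_succ, stdF_pow σ i, stdF, stdF, stdF, ← map_mul, fld_mul, pow_succ]
    rfl

theorem stdA_eq_mul (g : Cfsg.GSp m F) (σ : F ≃+* F) :
    stdA g σ = descend (cj g) * stdF σ := map_mul descend _ _

theorem cyc_pow (σ : F ≃+* F) (g : Cfsg.GSp m F) : ∀ i,
    (descend (cj g) * stdF σ) ^ i = descend (cj (cyc (gF σ) g i)) * stdF σ ^ i
  | 0 => by simp [cyc]
  | i + 1 => by
    rw [pow_succ', cyc_pow σ g i, cyc, map_mul cj, map_mul descend, pow_succ']
    simp only [mul_assoc]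
    congr 1
    rw [← mul_assoc, stdF_cj, mul_assoc]

section Finite

variable (p : ℕ) [Fact p.Prime] [CharP F p] [Finite F]
include p

theorem descend_cj_eq_one (hm : 1 ≤ m) (g : Cfsg.GSp m F) :
    descend (cj g) = (1 : MulAut PSpG) ↔ ∃ c : Fˣ, g = scalG c := by
  constructor
  · intro h
    have h' : stdA g (RingEquiv.refl F) = 1 := by rw [stdA, fld_one, mul_one, h]
    obtain ⟨c, hc⟩ := (Cfsg.Geo.mem_scalars_iff _).1 (stdA_eq_one p hm h').2
    exact ⟨c, Subtype.ext (Units.ext (by rw [hc, scalG_coe]))⟩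
  · rintro ⟨c, rfl⟩
    rw [cj_scalar ((Cfsg.Geo.mem_scalars_iff _).2 ⟨c, scalG_coe c⟩), map_one]

theorem stdF_eq_one_iff (hm : 1 ≤ m) (σ : F ≃+* F) :
    (stdF σ : MulAut PSpG) = 1 ↔ σ = RingEquiv.refl F := by
  refine ⟨fun h => (stdA_eq_one p hm (g := 1) (σ := σ) ?_).1, ?_⟩
  · rw [stdA_eq_mul, map_one, map_one, one_mul, h]
  · rintro rfl
    exact descend_fld_one

theorem orderOf_stdF (hm : 1 ≤ m) (σ : F ≃+* F) :
    orderOf (stdF σ : MulAut PSpG) = orderOf σ := by
  refine orderOf_eq_orderOf_iff.2 fun i => ?_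
  rw [stdF_pow, stdF_eq_one_iff p hm]
  rfl

theorem commute_stdF_iff (hm : 1 ≤ m) (σ : F ≃+* F) (g : Cfsg.GSp m F) :
    Commute (descend (cj g)) (stdF σ) ↔ ∃ c : Fˣ, gF σ g = g * scalG c := by
  rw [commute_iff_eq, stdF_cj, mul_left_inj]
  constructor
  · intro h
    obtain ⟨c, hc⟩ := (descend_cj_eq_one p hm (g⁻¹ * gF σ g)).1 (by
      rw [map_mul, map_mul, map_inv, map_inv, ← h, inv_mul_cancel])
    exact ⟨c, by rw [← hc, mul_inv_cancel_left]⟩
  · rintro ⟨c, hc⟩
    rw [hc, map_mul, map_mul, (descend_cj_eq_one p hm _).2 ⟨c, rfl⟩, mul_one]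

omit p [Fact p.Prime] [CharP F p] in
/-- Galois descent in `GL` over the index `Fin m ⊕ Fin m`. -/
theorem exists_descent_gl (σ : F ≃+* F) (hr : 0 < orderOf σ) (g : GLV)
    (hg : cyc (glF σ) g (orderOf σ) = 1) : ∃ h : GLV, g * glF σ h = h := by
  let e : GLV ≃* GL (Fin (m + m)) F :=
    Units.mapEquiv (Matrix.reindexAlgEquiv F F finSumFinEquiv).toMulEquiv
  have he : ∀ x, e (glF σ x) = AutPSL.glMap σ (e x) := fun x => by
    apply Units.ext
    ext i j
    rfl
  obtain ⟨h, hh⟩ := AutPSL.exists_descent σ hr (e g) (by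
    show cyc (AutPSL.glMap σ) (e.toMonoidHom g) _ = 1
    rw [← map_cyc (glF σ) (AutPSL.glMap σ) e.toMonoidHom he, hg, map_one])
  refine ⟨e.symm h, e.injective ?_⟩
  rw [map_mul, he, e.apply_symm_apply, hh]

/-- Elements of the same order in the coset of a field automorphism are conjugate to it. -/
theorem exists_conj_stdF (hm : 1 ≤ m) (σ : F ≃+* F) (hr : 0 < orderOf σ) (g : Cfsg.GSp m F)
    (h : (descend (cj g) * stdF σ : MulAut PSpG) ^ orderOf σ = 1) :
    ∃ k : Cfsg.GSp m F, descend (cj g) * stdF σ =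
      descend (cj k) * stdF σ * (descend (cj k))⁻¹ := by
  classical
  rw [cyc_pow, stdF_pow, pow_orderOf_eq_one, (stdF_eq_one_iff p hm (1 : F ≃+* F)).2 rfl, mul_one,
    descend_cj_eq_one p hm] at h
  obtain ⟨c, hc⟩ := h
  have hfix := AutPSL.fixed_of_central (gF σ) g (orderOf σ) (by
    have : ∀ i (x : Cfsg.GSp m F), (((gF σ : Cfsg.GSp m F → Cfsg.GSp m F)^[i] x : Cfsg.GSp m F) :
        GLV).1 = ((x : GLV) : Mat).map (σ ^ i : F ≃+* F) := by
      intro i
      induction i with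
      | zero => intro x; ext; rfl
      | succ i ih =>
        intro x
        rw [Function.iterate_succ_apply', pow_succ']
        show ((glF σ (((gF σ : Cfsg.GSp m F → Cfsg.GSp m F)^[i] x : Cfsg.GSp m F) : GLV) : GLV) : Mat) = _
        rw [glF_coe, ih]
        rfl
    apply Subtype.ext
    apply Units.ext
    rw [this, pow_orderOf_eq_one]
    rfl) (by rw [hc]; exact scalG_mem_center c)
  rw [hc, gF_scalG] at hfix
  obtain ⟨l, hl⟩ := AutPSL.exists_norm_eq σ hr c (scalG_injective hm hfix)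
  have hcl : ∀ i, cyc (gF σ) (scalG l⁻¹ : Cfsg.GSp m F) i = scalG (cyc (uMap σ) l⁻¹ i) := fun i =>
    (map_cyc (uMap σ) (gF σ) (scalG : Fˣ →* Cfsg.GSp m F) (fun x => (gF_scalG σ x).symm) l⁻¹ i).symm
  set g' := g * scalG l⁻¹ with hg'
  have hcyc : cyc (gF σ) g' (orderOf σ) = 1 := by
    rw [hg', cyc_mul_central _ _ _ (fun i => by rw [hcl]; exact scalG_mem_center _), hcl, hc,
      ← map_mul]
    have h1 : cyc (uMap σ) l⁻¹ (orderOf σ) = c⁻¹ := by
      refine eq_inv_of_mul_eq_one_left ?_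
      rw [← hl, ← cyc_comm, inv_mul_cancel]
      have : ∀ i, cyc (uMap σ) (1 : Fˣ) i = 1 := by
        intro i
        induction i with
        | zero => rfl
        | succ i ih => rw [cyc, ih, map_one, mul_one]
      exact this _
    rw [h1, mul_inv_cancel, map_one]
  -- descent in `GL`
  obtain ⟨hd, hhd⟩ := exists_descent_gl σ hr (g' : GLV) (by
    show cyc (glF σ) ((Cfsg.GSp m F).subtype g') _ = 1
    rw [← map_cyc (gF σ) (glF σ) (Cfsg.GSp m F).subtype (fun _ => rfl), hcyc, map_one])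
  obtain ⟨b, hb⟩ := AutPSL.exists_hilbert90 σ hr (multHom hm g') (by
    rw [← map_cyc (gF σ) (uMap σ) (multHom hm) (multHom_gF hm σ), hcyc, map_one])
  -- the form pulled back along `hd` is defined over the fixed field
  let F₀ := (σ : F →+* F).eqLocusField (RingHom.id F)
  have hgv : ∀ v : V, (hd : Mat) *ᵥ vmap σ v =
      ((g' : GLV) : Mat) *ᵥ vmap σ ((hd : Mat) *ᵥ v) := fun v => by
    conv_lhs => rw [← hhd]
    rw [Units.val_mul, ← Matrix.mulVec_mulVec, glF_apply]
  have hC : ∀ i j, σ ((↑b⁻¹ : F) * B ((hd : Mat) *ᵥ bv i) ((hd : Mat) *ᵥ bv j)) =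
      (↑b⁻¹ : F) * B ((hd : Mat) *ᵥ bv i) ((hd : Mat) *ᵥ bv j) := by
    intro i j
    have hbv : ∀ i, vmap σ (bv i : V) = bv i := fun i => funext fun k => by
      simp [vmap, bv, Pi.single_apply, apply_ite σ]
    conv_rhs => rw [← hbv i, ← hbv j, hgv, hgv, mult_spec, B_vmap]
    rw [map_mul, ← mul_assoc]
    congr 1
    show σ _ = (↑b⁻¹ : F) * ↑(multHom hm g')
    rw [hb, Units.val_mul, ← mul_assoc, Units.inv_mul, one_mul]
    simp [uMap]
  let N : Matrix (Fin m ⊕ Fin m) (Fin m ⊕ Fin m) F₀ := Matrix.of fun i j =>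
    ⟨(↑b⁻¹ : F) * B ((hd : Mat) *ᵥ bv i) ((hd : Mat) *ᵥ bv j), hC i j⟩
  let C₀ : LinearMap.BilinForm F₀ (Fin m ⊕ Fin m → F₀) := Matrix.toBilin' N
  have hlin : ∀ u : V, u = ∑ i, u i • bv i := fun u => by
    funext a
    simp [bv, Pi.single_apply, Finset.sum_ite_eq]
  have hC₀ : ∀ u v : Fin m ⊕ Fin m → F₀,
      ((C₀ u v : F₀) : F) = (↑b⁻¹ : F) * B ((hd : Mat) *ᵥ fun i => (u i : F))
        ((hd : Mat) *ᵥ fun i => (v i : F)) := by
    intro u v
    conv_rhs => rw [hlin (fun i => (u i : F)), hlin (fun i => (v i : F))]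
    simp only [Matrix.mulVec_sum, Matrix.mulVec_smul, map_sum, LinearMap.sum_apply, map_smul,
      LinearMap.smul_apply, smul_eq_mul, Finset.mul_sum]
    rw [show C₀ u v = ∑ i, ∑ j, u i * N i j * v j from Matrix.toBilin'_apply N u v]
    simp only [AddSubmonoidClass.coe_finset_sum, N, Matrix.of_apply]
    rw [Finset.sum_comm]
    refine Finset.sum_congr rfl fun i _ => Finset.sum_congr rfl fun j _ => ?_
    push_cast
    ring
  have hA : LinearMap.IsAlt C₀ := fun v => Subtype.ext (by rw [hC₀, B_self, mul_zero]; rfl)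
  have hinj : Function.Injective fun v : V => (hd : Mat) *ᵥ v := fun u v h => by
    simpa [Matrix.mulVec_mulVec, ← Units.val_mul] using
      congrArg (fun w => ((hd⁻¹ : GLV) : Mat) *ᵥ w) h
  have hsurj : Function.Surjective fun v : V => (hd : Mat) *ᵥ v := fun w =>
    ⟨((hd⁻¹ : GLV) : Mat) *ᵥ w, by simp [Matrix.mulVec_mulVec, ← Units.val_mul]⟩
  have hleft : ∀ u, (∀ v, C₀ u v = 0) → u = 0 := by
    intro u hu
    have h1 : ∀ w : V, B w ((hd : Mat) *ᵥ fun i => (u i : F)) = 0 := by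
      intro w
      obtain ⟨v, rfl⟩ := hsurj w
      rw [hlin v]
      simp only [Matrix.mulVec_sum, Matrix.mulVec_smul, map_sum, LinearMap.sum_apply, map_smul,
        LinearMap.smul_apply, smul_eq_mul]
      refine Finset.sum_eq_zero fun j _ => mul_eq_zero_of_right _ ?_
      have h2 := congrArg Subtype.val (hu (Pi.single j 1))
      rw [hC₀] at h2
      have h3 : (fun i => (((Pi.single j 1 : Fin m ⊕ Fin m → F₀) i : F₀) : F)) = bv j := by
        funext i; simp [bv, Pi.single_apply, apply_ite Subtype.val]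
      rw [h3, ZeroMemClass.coe_zero, mul_eq_zero] at h2
      rw [B_eq_zero_comm]
      exact h2.resolve_left (Units.ne_zero _)
    have h4 : (fun i => (u i : F)) = 0 := hinj (by
      show (hd : Mat) *ᵥ _ = (hd : Mat) *ᵥ 0
      rw [Matrix.mulVec_zero]; exact eq_zero_of_orth h1)
    funext i
    exact Subtype.ext (congrFun h4 i)
  have hnd : LinearMap.Nondegenerate C₀ :=
    ⟨hleft, fun u hu => hleft u fun v => by rw [alt_swap hA v u, hu, neg_zero]⟩
  obtain ⟨m', bs, b1, b2, b3⟩ := exists_symplectic_basis_nondeg hA hnd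
  have hmm : m' = m := by
    have := Fintype.card_congr (bs.indexEquiv (Pi.basisFun F₀ (Fin m ⊕ Fin m)))
    simp at this
    omega
  symm at hmm
  subst hmm
  let col : Fin m ⊕ Fin m → (Fin m ⊕ Fin m → F₀) := fun i => bs i.swap
  let M0 : Mat := Matrix.of fun a c => ((col c a : F₀) : F)
  have hM0 : IsUnit M0 := by
    have hli : LinearIndependent F₀ col := bs.linearIndependent.comp _ Sum.swap_leftInverse.injective
    have hu : IsUnit (Matrix.of fun a c => col c a : Matrix (Fin m ⊕ Fin m) (Fin m ⊕ Fin m) F₀) := by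
      rw [← Matrix.linearIndependent_cols_iff_isUnit]; exact hli
    exact hu.map (RingHom.mapMatrix (F₀.subtype : F₀ →+* F))
  let k : GLV := hd * hM0.unit
  have hkb : ∀ i, (k : Mat) *ᵥ bv i = (hd : Mat) *ᵥ fun a => (col i a : F) := fun i => by
    rw [Units.val_mul, ← Matrix.mulVec_mulVec]
    congr 1
    funext a
    simp [M0, bv]
  have hk : ∀ u v : V, B ((k : Mat) *ᵥ u) ((k : Mat) *ᵥ v) = (b : F) * B u v := by
    intro u v
    rw [hlin u, hlin v]
    simp only [Matrix.mulVec_sum, Matrix.mulVec_smul, map_sum, LinearMap.sum_apply, map_smul,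
      LinearMap.smul_apply, smul_eq_mul, Finset.mul_sum, hkb]
    refine Finset.sum_congr rfl fun i _ => Finset.sum_congr rfl fun j _ => ?_
    have e := hC₀ (col j) (col i)
    have e2 : ((C₀ (col j) (col i) : F₀) : F) = B (bv j : V) (bv i) := by
      rw [B_bv (bv j : V)]
      rcases i with i | i <;> rcases j with j | j <;> simp only [col, Sum.swap_inl, Sum.swap_inr]
      · rw [b3]; simp [bv]
      · rw [b1, apply_ite Subtype.val]
        simp [bv, sgn, Pi.single_apply, eq_comm]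
      · rw [alt_swap hA (bs (.inl i)) (bs (.inr j)), b1]
        simp [bv, sgn, Pi.single_apply, apply_ite Neg.neg, apply_ite Subtype.val, eq_comm]
        split_ifs <;> simp
      · rw [b2]; simp [bv]
    rw [e2] at e
    rw [e, Units.val_inv_eq_inv_val]
    field_simp
  let kG : Cfsg.GSp m F := ⟨k, mem_GSp.2 ⟨b, hk⟩⟩
  have hfixk : g' * gF σ kG = kG := by
    apply Subtype.ext
    show (g' : GLV) * glF σ k = k
    have hσM : glF σ hM0.unit = hM0.unit := by
      apply Units.ext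
      ext a c
      exact (col c a).2
    rw [show k = hd * hM0.unit from rfl, map_mul, hσM, ← mul_assoc, hhd]
  refine ⟨kG, ?_⟩
  have hg'' : descend (cj g') = (descend (cj g) : MulAut PSpG) := by
    rw [hg', map_mul, map_mul, (descend_cj_eq_one p hm _).2 ⟨_, rfl⟩, mul_one]
  conv_rhs => lhs; lhs; rw [← hfixk]
  rw [map_mul cj, map_mul descend, mul_assoc (descend (cj g')), ← stdF_cj, hg'']
  simp [mul_assoc]

omit [Fact p.Prime] [CharP F p] in
/-- An element commuting with a field automorphism is a fixed similitude up to a scalar. -/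
theorem exists_fixed (hm : 1 ≤ m) (σ : F ≃+* F) (hr : 0 < orderOf σ) (g : Cfsg.GSp m F) (c : Fˣ)
    (h : gF σ g = g * scalG c) : ∃ b : Fˣ, gF σ (g * scalG b) = g * scalG b := by
  have hiter : ∀ i, (gF σ : Cfsg.GSp m F → Cfsg.GSp m F)^[i] g =
      g * scalG (cyc (uMap σ) c i) := by
    intro i
    induction i with
    | zero => simp [cyc]
    | succ i ih =>
      rw [Function.iterate_succ_apply', ih, map_mul, gF_scalG, h, cyc, mul_assoc, map_mul]
  have hper : (gF σ : Cfsg.GSp m F → Cfsg.GSp m F)^[orderOf σ] g = g := by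
    have : ∀ i (x : Cfsg.GSp m F), (((gF σ : Cfsg.GSp m F → Cfsg.GSp m F)^[i] x : Cfsg.GSp m F) :
        GLV).1 = ((x : GLV) : Mat).map (σ ^ i : F ≃+* F) := by
      intro i
      induction i with
      | zero => intro x; ext; rfl
      | succ i ih =>
        intro x
        rw [Function.iterate_succ_apply', pow_succ']
        show ((glF σ (((gF σ : Cfsg.GSp m F → Cfsg.GSp m F)^[i] x : Cfsg.GSp m F) : GLV) : GLV) : Mat) = _
        rw [glF_coe, ih]
        rfl
    apply Subtype.ext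
    apply Units.ext
    rw [this, pow_orderOf_eq_one]
    rfl
  have h1 : cyc (uMap σ) c (orderOf σ) = 1 := by
    refine scalG_injective hm (mul_left_cancel (a := g) ?_)
    rw [← hiter, map_one, mul_one, hper]
  obtain ⟨b, hb⟩ := AutPSL.exists_hilbert90 σ hr c h1
  refine ⟨b, ?_⟩
  rw [map_mul, gF_scalG, h, mul_assoc, ← map_mul, hb, inv_mul_cancel_right]

end Finite

section Subfield

variable (σ : F ≃+* F) {F₀ : Type*} [Field F₀] (j : F₀ →+* F)

local notation "GLV₀" => GL (Fin m ⊕ Fin m) F₀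

theorem map_mem_GSp (g : Cfsg.GSp m F₀) :
    Matrix.GeneralLinearGroup.map j (g : GLV₀) ∈ Cfsg.GSp m F := by
  rw [mem_GSp]
  refine ⟨Units.map j.toMonoidHom (mult g), fun u v => ?_⟩
  have hlin : ∀ u : V, u = ∑ i, u i • bv i := fun u => by
    funext a
    simp [bv, Pi.single_apply, Finset.sum_ite_eq]
  have hb : ∀ i, ((Matrix.GeneralLinearGroup.map j (g : GLV₀) : GLV) : Mat) *ᵥ bv i =
      fun a => j ((((g : GLV₀) : Matrix (Fin m ⊕ Fin m) (Fin m ⊕ Fin m) F₀) *ᵥ bv i) a) := fun i => by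
    funext a
    simp [bv]
  have hB : ∀ a b : Fin m ⊕ Fin m → F₀,
      B (fun i => j (a i)) (fun i => j (b i)) = j (spB m F₀ a b) := fun a b => by
    simp [spB_expand, map_sum]
  rw [hlin u, hlin v]
  simp only [Matrix.mulVec_sum, Matrix.mulVec_smul, map_sum, LinearMap.sum_apply, map_smul,
    LinearMap.smul_apply, smul_eq_mul, Finset.mul_sum, hb, hB, mult_spec]
  refine Finset.sum_congr rfl fun i _ => Finset.sum_congr rfl fun k _ => ?_
  rw [map_mul, ← hB]
  have e : ∀ l, (fun a => j ((bv l : Fin m ⊕ Fin m → F₀) a)) = (bv l : V) := fun l => by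
    funext a; simp [bv, Pi.single_apply, apply_ite j]
  rw [e, e]
  show _ = (j (mult g : F₀)) * _
  ring

/-- Similitudes over a subfield. -/
def gMap : Cfsg.GSp m F₀ →* Cfsg.GSp m F :=
  ((Matrix.GeneralLinearGroup.map j).comp (Cfsg.GSp m F₀).subtype).codRestrict _ (map_mem_GSp j)

theorem gMap_coe (g : Cfsg.GSp m F₀) :
    (((gMap j g : Cfsg.GSp m F) : GLV) : Mat) =
      ((g : GLV₀) : Matrix (Fin m ⊕ Fin m) (Fin m ⊕ Fin m) F₀).map j := rfl

theorem multHom_gMap (hm : 1 ≤ m) (g : Cfsg.GSp m F₀) :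
    multHom hm (gMap j g) = Units.map j.toMonoidHom (mult g) := by
  refine mult_eq_of hm _ _ ?_
  obtain ⟨c, hc⟩ := mem_GSp.1 (map_mem_GSp j g)
  obtain ⟨w, hw⟩ := exists_not_orth (bv_ne_zero (F := F₀) (.inl (⟨0, hm⟩ : Fin m)))
  suffices c = Units.map j.toMonoidHom (mult g) by subst this; exact hc
  have e := hc (fun i => j (w i)) (fun i => j ((bv (.inl ⟨0, hm⟩) : Fin m ⊕ Fin m → F₀) i))
  have hmv : ∀ u : Fin m ⊕ Fin m → F₀,
      ((Matrix.GeneralLinearGroup.map j (g : GLV₀) : GLV) : Mat) *ᵥ (fun i => j (u i)) =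
        fun a => j ((((g : GLV₀) : Matrix (Fin m ⊕ Fin m) (Fin m ⊕ Fin m) F₀) *ᵥ u) a) := fun u => by
    funext a
    simp [Matrix.mulVec, dotProduct, map_sum]
  have hB : ∀ a b : Fin m ⊕ Fin m → F₀,
      B (fun i => j (a i)) (fun i => j (b i)) = j (spB m F₀ a b) := fun a b => by
    simp [spB_expand, map_sum]
  rw [hmv, hmv, hB, hB, mult_spec, hw, mul_one, map_one, mul_one] at e
  exact Units.ext e.symm

variable (hj : ∀ a, σ a = a ↔ a ∈ j.range)

include hj

theorem gF_gMap (g : Cfsg.GSp m F₀) : gF σ (gMap j g) = gMap j g := by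
  apply Subtype.ext
  apply Units.ext
  ext a b
  exact (hj _).2 ⟨_, rfl⟩

theorem exists_gMap_eq [Finite F₀] (hm : 1 ≤ m) (g : Cfsg.GSp m F) (hg : gF σ g = g) :
    ∃ g₀ : Cfsg.GSp m F₀, gMap j g₀ = g := by
  have hent : ∀ a b, ((g : GLV) : Mat) a b ∈ j.range := fun a b =>
    (hj _).1 (congrArg (fun x : Cfsg.GSp m F => ((x : GLV) : Mat) a b) hg)
  choose M hM using hent
  have hmap : (Matrix.of M).map j = ((g : GLV) : Mat) := by ext a b; exact hM a b
  have hu : IsUnit (Matrix.of M) := by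
    rw [Matrix.isUnit_iff_isUnit_det, isUnit_iff_ne_zero]
    intro h0
    have := (Matrix.isUnit_iff_isUnit_det ((g : GLV) : Mat)).mp (g : GLV).isUnit
    rw [← hmap, ← RingHom.mapMatrix_apply, ← RingHom.map_det, h0, map_zero] at this
    exact not_isUnit_zero this
  have hmult : σ (mult g : F) = mult g := by
    have := congrArg (fun x => ((multHom hm x : Fˣ) : F)) hg
    rw [multHom_gF] at this
    exact this
  obtain ⟨c, hc⟩ := (hj _).1 hmult
  have hc0 : c ≠ 0 := by
    rintro rfl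
    rw [map_zero] at hc
    exact (mult g).ne_zero hc.symm
  have hmv : ∀ u : Fin m ⊕ Fin m → F₀, ((g : GLV) : Mat) *ᵥ (fun i => j (u i)) =
      fun a => j ((Matrix.of M *ᵥ u) a) := fun u => by
    rw [← hmap]
    funext a
    simp [Matrix.mulVec, dotProduct, map_sum]
  have hB : ∀ a b : Fin m ⊕ Fin m → F₀,
      B (fun i => j (a i)) (fun i => j (b i)) = j (spB m F₀ a b) := fun a b => by
    simp [spB_expand, map_sum]
  have hmem : hu.unit ∈ Cfsg.GSp m F₀ := by
    refine mem_GSp.2 ⟨Units.mk0 c hc0, fun u v => j.injective ?_⟩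
    rw [map_mul, Units.val_mk0, hc, ← hB, ← hB]
    have e := mult_spec g (fun i => j (u i)) (fun i => j (v i))
    rw [hmv, hmv] at e
    exact e
  exact ⟨⟨hu.unit, hmem⟩, Subtype.ext (Units.ext hmap)⟩

variable (p : ℕ) [Fact p.Prime] [CharP F p] [Finite F] [Finite F₀]
include p

/-- The centraliser of a field automorphism in the inner-diagonal group. -/
theorem centralizer_equiv (hm : 1 ≤ m) (hr : 0 < orderOf σ) :
    Nonempty (↥(Cfsg.inndiagPSp m F ⊓ Subgroup.centralizer {stdF σ}) ≃* Cfsg.PGSp m F₀) := by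
  let Φ : Cfsg.GSp m F₀ →* ↥(Cfsg.inndiagPSp m F ⊓ Subgroup.centralizer {stdF σ}) :=
    ((descend.comp cj).comp (gMap j)).codRestrict _ (fun g => ⟨by
      rw [inndiag_eq]; exact ⟨gMap j g, rfl⟩,
      Subgroup.mem_centralizer_singleton_iff.mpr (((commute_stdF_iff p hm σ (gMap j g)).mpr
        ⟨1, by rw [gF_gMap σ j hj, map_one, mul_one]⟩).eq)⟩)
  have hΦ : Function.Surjective Φ := by
    rintro ⟨x, hx1, hx2⟩
    rw [inndiag_eq] at hx1
    obtain ⟨g, rfl⟩ := hx1
    obtain ⟨c, hc⟩ := (commute_stdF_iff p hm σ g).mp (Subgroup.mem_centralizer_singleton_iff.mp hx2)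
    obtain ⟨b, hb⟩ := exists_fixed p hm σ hr g c hc
    obtain ⟨g₀, hg₀⟩ := exists_gMap_eq σ j hj hm _ hb
    refine ⟨g₀, Subtype.ext ?_⟩
    show descend (cj (gMap j g₀)) = descend (cj g)
    rw [hg₀, map_mul, map_mul, (descend_cj_eq_one p hm _).2 ⟨b, rfl⟩, mul_one]
  refine ⟨((QuotientGroup.quotientMulEquivOfEq ?_).trans
    (QuotientGroup.quotientKerEquivOfSurjective Φ hΦ)).symm⟩
  ext g
  rw [MonoidHom.mem_ker, Subgroup.mem_subgroupOf, Cfsg.Geo.mem_scalars_iff]
  constructor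
  · rintro ⟨c, hc⟩
    refine Subtype.ext ((descend_cj_eq_one p hm _).2 ⟨Units.map j.toMonoidHom c, ?_⟩)
    refine Subtype.ext (Units.ext ?_)
    rw [gMap_coe, hc, scalG_coe]
    ext a b
    simp [Matrix.one_apply, apply_ite j]
  · intro h
    obtain ⟨c, hc⟩ := (descend_cj_eq_one p hm _).1 (congrArg Subtype.val h)
    have e : ∀ a b, j (((g : GLV₀) : Matrix (Fin m ⊕ Fin m) (Fin m ⊕ Fin m) F₀) a b) =
        (c : F) * if a = b then 1 else 0 := fun a b => by
      have := congrArg (fun x : Cfsg.GSp m F => ((x : GLV) : Mat) a b) hc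
      simpa [scalG_coe, gMap_coe, Matrix.one_apply] using this
    set i0 : Fin m ⊕ Fin m := .inl ⟨0, hm⟩
    set d := ((g : GLV₀) : Matrix (Fin m ⊕ Fin m) (Fin m ⊕ Fin m) F₀) i0 i0 with hd
    have hdc : j d = c := by rw [hd, e]; simp
    refine ⟨Units.mk0 d (fun h0 => c.ne_zero (by rw [← hdc, h0, map_zero])), ?_⟩
    ext a b
    apply j.injective
    rw [e]
    simp [Matrix.one_apply, apply_ite j, hdc]

/-- The number of classes under inner automorphisms in the class of a field automorphism. -/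
theorem splitClassCount_stdF (hm : 1 ≤ m) (hr : 0 < orderOf σ) :
    Cfsg.splitClassCount (Cfsg.inndiagPSp m F) (Cfsg.Inn PSpG) (stdF σ) =
      Nat.gcd ((Nat.card F - 1) / (Nat.card F₀ - 1)) 2 := by
  have hinn : Cfsg.Inn PSpG = (multHom (F := F) hm).ker.map (descend.comp cj) := by
    apply le_antisymm
    · rintro _ ⟨a, rfl⟩
      obtain ⟨s, rfl⟩ := proj_surjective a
      refine ⟨spToG s, ?_, ?_⟩
      · exact mult_eq_of hm _ _ fun u v => by
          rw [show ((spToG s : Cfsg.GSp m F) : GLV).1 = (s : Mat) from rfl, B_sp, Units.val_one,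
            one_mul]
      · rw [MonoidHom.comp_apply, cj_spToG, descend_conj]
    · rintro _ ⟨g, hg, rfl⟩
      have hg1 : mult g = 1 := hg
      let s : Sp := ⟨((g : GLV) : Mat), (mem_symplectic_iff _).2 fun u v => by
        rw [mult_spec, hg1, Units.val_one, one_mul]⟩
      refine ⟨proj m F s, ?_⟩
      rw [MonoidHom.comp_apply, ← descend_conj, ← cj_spToG,
        show spToG s = g from Subtype.ext (Units.ext rfl)]
  rw [inndiag_eq, hinn, splitClassCount_eq_index, index_ker_sup _ (multHom_surjective hm),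
    show (commSub (descend.comp cj) (stdF σ)).map (multHom (F := F) hm) =
      (powMonoidHom 2 : Fˣ →* Fˣ).range ⊔ (Units.map j.toMonoidHom).range from ?_,
    AutPSL.index_pow_sup, AutPSL.index_units_range]
  apply le_antisymm
  · rintro _ ⟨g, hg, rfl⟩
    obtain ⟨c, hc⟩ := (commute_stdF_iff p hm σ g).mp (mem_commSub.1 hg)
    obtain ⟨b, hb⟩ := exists_fixed p hm σ hr g c hc
    obtain ⟨g₀, hg₀⟩ := exists_gMap_eq σ j hj hm _ hb
    rw [show g = scalG b⁻¹ * gMap j g₀ by rw [hg₀, scalG_central, map_inv, inv_mul_cancel_left],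
      map_mul, multHom_scalG, multHom_gMap]
    exact Subgroup.mul_mem_sup ⟨b⁻¹, pow_two _⟩ ⟨_, rfl⟩
  · rw [sup_le_iff]
    constructor
    · rintro _ ⟨b, rfl⟩
      refine ⟨scalG b, mem_commSub.2 ((commute_stdF_iff p hm σ _).2
        ⟨b⁻¹ * uMap σ b, by rw [gF_scalG, ← map_mul, mul_inv_cancel_left]⟩), ?_⟩
      rw [multHom_scalG, powMonoidHom_apply, pow_two]
    · rintro _ ⟨c, rfl⟩
      obtain ⟨g₀, hg₀⟩ := multHom_surjective (F := F₀) hm c
      refine ⟨gMap j g₀, mem_commSub.2 ((commute_stdF_iff p hm σ _).2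
        ⟨1, by rw [gF_gMap σ j hj, map_one, mul_one]⟩), ?_⟩
      rw [multHom_gMap, ← hg₀]
      rfl

end Subfield

section Classes

variable (p : ℕ) [Fact p.Prime] [CharP F p] [Finite F]
include p

theorem inndiag_mem (g : Cfsg.GSp m F) :
    (descend (cj g) : MulAut PSpG) ∈ Cfsg.inndiagPSp m F := by
  rw [inndiag_eq]; exact ⟨g, rfl⟩

/-- Conjugates of a standard field automorphism are conjugate to it in the inner-diagonal group. -/
theorem exists_inndiag_conj (hm : 2 ≤ m) (σ : F ≃+* F) (α : MulAut PSpG) :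
    ∃ g : Cfsg.GSp m F, α * stdF σ * α⁻¹ = descend (cj g) * stdF σ * (descend (cj g))⁻¹ := by
  haveI : IsCyclic (F ≃+* F) := AutPSL.isCyclic_ringAut p
  have hstd : ∀ (g : Cfsg.GSp m F) (τ : F ≃+* F),
      stdA g τ * stdF σ * (stdA g τ)⁻¹ = descend (cj g) * stdF σ * (descend (cj g))⁻¹ := by
    intro g τ
    have hc : Commute (stdF τ : MulAut PSpG) (stdF σ) := by
      show _ = _
      rw [stdF, stdF, ← map_mul, ← map_mul, fld_mul, fld_mul]
      exact congrArg (fun e => descend (fld e))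
        ((IsCyclic.commutative (α := F ≃+* F)).is_comm.comm τ σ)
    rw [stdA_eq_mul]
    simp only [_root_.mul_inv_rev, mul_assoc]
    congr 1
    rw [← mul_assoc, hc.eq, mul_assoc, mul_inv_cancel_left]
  by_cases h : m = 2 ∧ p = 2
  · obtain ⟨rfl, rfl⟩ := h
    obtain ⟨g, τ, e | e⟩ := exists_normal_form_four α
    · exact ⟨g, e ▸ hstd g τ⟩
    · have hgr : Commute (graph : MulAut (Cfsg.PSp 2 F)) (stdF σ) := by
        show _ = _
        rw [graph, stdF, ← map_mul, ← map_mul]
        congr 1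
        refine MulEquiv.ext fun s => Subtype.ext ?_
        show gamMat ((s.1).map σ) = (gamMat s.1).map σ
        ext a b
        simp [gamMat]
      obtain ⟨a, ha⟩ := pgHom_mem_inn (m := 2) (by omega) g
      obtain ⟨s, hs⟩ := proj_surjective (graph⁻¹ a)
      refine ⟨spToG s, ?_⟩
      have hc : descend (cj (spToG s)) = graph⁻¹ * descend (cj g) * graph := by
        rw [cj_spToG, descend_conj, hs, ← ha]
        refine MulEquiv.ext fun x => ?_
        simp [MulAut.mul_apply, MulAut.conj_apply]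
      rw [e, _root_.mul_inv_rev, inv_inv]
      rw [show graph⁻¹ * stdA g τ * stdF σ * ((stdA g τ)⁻¹ * graph) =
        graph⁻¹ * (stdA g τ * stdF σ * (stdA g τ)⁻¹) * graph by simp [mul_assoc], hstd, hc]
      have h2 : graph * stdF σ * graph⁻¹ = (stdF σ : MulAut (Cfsg.PSp 2 F)) := by
        rw [hgr.eq, mul_inv_cancel_right]
      conv_lhs => rw [← h2]
      simp [mul_assoc]
  · obtain ⟨g, τ, rfl⟩ := exists_normal_form p hm (fun h2 h3 => h ⟨h2, h3⟩) α
    exact ⟨g, hstd g τ⟩

theorem exists_field_rep (hm : 2 ≤ m) {x : MulAut PSpG} (hx : Cfsg.IsFieldAutClassPSp x) :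
    ∃ (σ : F ≃+* F) (k : Cfsg.GSp m F), σ ≠ RingEquiv.refl F ∧
      x = descend (cj k) * stdF σ * (descend (cj k))⁻¹ := by
  obtain ⟨α, σ, hσ, hs⟩ := hx
  rw [isStdField_iff] at hs
  obtain ⟨k, hk⟩ := exists_inndiag_conj p hm σ α⁻¹
  refine ⟨σ, k, hσ, ?_⟩
  rw [← hk, inv_inv, show stdF σ = α * x * α⁻¹ from hs.symm]
  simp [mul_assoc]

/-- In the coset of a field automorphism of prime order `r`, order `r` means conjugate. -/
theorem coset_conj_iff (hm : 2 ≤ m) {x δ : MulAut PSpG} (hx : Cfsg.IsFieldAutClassPSp x) {r : ℕ}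
    (hr : r.Prime) (hxr : orderOf x = r) (hδ : δ ∈ Cfsg.inndiagPSp m F) :
    orderOf (δ * x) = r ↔ Cfsg.IsConjUnder (Cfsg.inndiagPSp m F) x (δ * x) := by
  constructor
  swap
  · rintro ⟨h, -, he⟩
    rw [he, AutPSL.orderOf_conj, hxr]
  intro hord
  obtain ⟨σ, k, -, hxe⟩ := exists_field_rep p hm hx
  have hσr : orderOf σ = r := by
    rw [← hxr, hxe, AutPSL.orderOf_conj, orderOf_stdF p (by omega)]
  rw [inndiag_eq] at hδ
  obtain ⟨d, rfl⟩ := hδ
  have e1 : (descend.comp cj) d * x = descend (cj k) *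
      (descend (cj (k⁻¹ * d * k)) * stdF σ) * (descend (cj k))⁻¹ := by
    rw [hxe, MonoidHom.comp_apply, map_mul cj, map_mul cj, map_mul descend, map_mul descend,
      map_inv, map_inv]
    simp [mul_assoc]
  rw [e1, AutPSL.orderOf_conj] at hord
  obtain ⟨l, hl⟩ := exists_conj_stdF p (m := m) (show 1 ≤ m from le_trans one_le_two hm) σ
    (by rw [hσr]; exact hr.pos) _
    (by rw [hσr, ← hord]; exact pow_orderOf_eq_one _)
  rw [e1, hl, hxe, AutPSL.isConjUnder_iff_of_conj _ (inndiag_mem p k)]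
  exact ⟨descend (cj k) * descend (cj l), mul_mem (inndiag_mem p k) (inndiag_mem p l),
    by simp [mul_assoc]⟩

end Classes

end Cfsg.Agent.AutPSp
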