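import Cfsg.Agent.Lib.AutPSp.Centre

/-!
# Transvections of `Sp_{2m}` in characteristic two

A transvection has no product with a conjugate of order four; the other involutions
`q(y; b, t)` have one, unless `m = 2` and `t = 0` (the short root elements).
-/

set_option autoImplicit false

namespace Cfsg.Agent.AutPSp

open Matrix Cfsg.Agent.FormsLib

universe u

variable {m : ℕ} {F : Type u} [Field F]

local notation "V" => Fin m ⊕ Fin m → F
local notation "Sp" => Matrix.symplecticGroup (Fin m) F
local notation "PSpG" => Cfsg.PSp m F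
local notation "Mat" => Matrix (Fin m ⊕ Fin m) (Fin m ⊕ Fin m) F
local notation "B" => spB m F

/-- No product of `g` with one of its conjugates has order exactly four. -/
def NoFour {G : Type*} [Group G] (g : G) : Prop :=
  ∀ h : G, (g * (h * g * h⁻¹)) ^ 4 = 1 → (g * (h * g * h⁻¹)) ^ 2 = 1

theorem NoFour.map {G H : Type*} [Group G] [Group H] (e : G ≃* H) {g : G} (hg : NoFour g) :
    NoFour (e g) := by
  intro h
  obtain ⟨k, rfl⟩ := e.surjective h
  intro h4
  have := hg k (e.injective (by simpa using h4))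
  simpa using congrArg e this

theorem mul_pow_four_of_commute {G : Type*} [Group G] {z z' : G} (hz : z * z = 1) (hz' : z' * z' = 1)
    (h : Commute (z * z' * z) z') : (z * z') ^ 4 = 1 := by
  have e2 : (z * z') ^ 2 = z * z' * z * z' := by rw [pow_two, ← mul_assoc]
  have hu : (z * z' * z) * (z * z' * z) = 1 := by
    calc (z * z' * z) * (z * z' * z) = z * (z' * (z * z) * z') * z := by group
      _ = 1 := by rw [hz, mul_one, hz', mul_one, hz]
  calc (z * z') ^ 4 = ((z * z') ^ 2) ^ 2 := by rw [← pow_mul]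
    _ = ((z * z' * z) * z') ^ 2 := by rw [e2]
    _ = 1 := by rw [h.mul_pow, pow_two, pow_two, hu, hz', mul_one]

variable [CharP F 2]

theorem neg_eq_self (a : F) : -a = a := CharTwo.neg_eq a

theorem B_comm (u v : V) : B u v = B v u := by rw [B_swap, neg_eq_self]

theorem qE_sq {x a : V} (ha : B x a = 0) (t : F) : qE x a ha t * qE x a ha t = 1 := by
  rw [← pow_two]; exact qE_pow_char 2 ha t

theorem proj_injective : Function.Injective (proj m F) := by
  intro s t h
  rw [← inv_mul_eq_one]
  apply Subtype.ext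
  rw [OneMemClass.coe_one]
  rcases proj_eq_iff.1 h with e | e
  · exact e
  · rw [e]; ext i j; simp [neg_eq_self]

/-- A transvection has no product with a conjugate of order four. -/
theorem noFour_tr (x : V) (c : F) : NoFour (proj m F (tr x c)) := by
  by_cases hc : c = 0
  · subst hc; intro h _; simp [tr_zero]
  by_cases hx : x = 0
  · subst hx
    have : tr (0 : V) c = (1 : Sp) := sp_ext fun v => by simp
    intro h _; simp [this]
  intro h h4
  obtain ⟨h, rfl⟩ := proj_surjective h
  simp only [← map_inv, ← map_mul, ← map_pow, tr_conj] at h4 ⊢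
  rw [← map_one (proj m F)] at h4
  have h4 := proj_injective h4
  set y := (h : Mat) *ᵥ x with hy
  have hy0 : y ≠ 0 := fun e => hx (sp_mulVec_injective h (a₁ := x) (a₂ := 0) (by simpa using e))
  set z := tr x c with hzd
  set z' := tr y c with hzd'
  have hz : z * z = 1 := qE_sq _ _
  have hz' : z' * z' = 1 := qE_sq _ _
  have hu : z * z' * z = tr ((z : Mat) *ᵥ y) c := by
    rw [← tr_conj]
    congr 1
    exact (inv_eq_of_mul_eq_one_right hz).symm
  have hcomm : Commute (z * z' * z) z' := by
    have huu : (z * z' * z) * (z * z' * z) = 1 := by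
      calc (z * z' * z) * (z * z' * z) = z * (z' * (z * z) * z') * z := by group
        _ = 1 := by rw [hz, mul_one, hz', mul_one, hz]
    have e : ((z * z' * z) * z') * ((z * z' * z) * z') = 1 := by
      rw [← h4]
      simp only [pow_succ, pow_zero, one_mul, mul_assoc]
    calc z * z' * z * z' = ((z * z' * z) * z')⁻¹ := (inv_eq_of_mul_eq_one_right e).symm
      _ = z'⁻¹ * (z * z' * z)⁻¹ := _root_.mul_inv_rev _ _
      _ = z' * (z * z' * z) := by
          rw [inv_eq_of_mul_eq_one_right hz', inv_eq_of_mul_eq_one_right huu]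
  have hzy : (z : Mat) *ᵥ y ≠ 0 := fun e => hy0 (sp_mulVec_injective z (a₁ := y) (a₂ := 0)
    (by simpa using e))
  rw [hu] at hcomm
  have hB := (tr_commute_iff hzy hy0 hc hc).1 hcomm.eq
  rw [B_comm] at hB
  simp [hzd, B_self, hc] at hB
  have hxy : B x y = 0 := by
    rw [B_comm]; simpa using hB
  have hc' : Commute z z' := (tr_commute_iff hx hy0 hc hc).2 hxy
  rw [hc'.mul_pow, pow_two, pow_two, hz, hz', one_mul, map_one]

/-- The swap of two orthogonal hyperbolic pairs `(y, w)` and `(d, b)`. -/
theorem exists_swap {y w d b : V} (hyw : B w y = 1) (hdb : B b d = 1) (h1 : B y d = 0)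
    (h2 : B y b = 0) (h3 : B w d = 0) (h4 : B w b = 0) :
    ∃ s : Sp, (s : Mat) *ᵥ y = d ∧ (s : Mat) *ᵥ w = b ∧
      ∀ v : V, B v (y + d) = 0 → B v (w + b) = 0 → (s : Mat) *ᵥ v = v := by
  have hyy := B_comm w y
  have hbb := B_comm b d
  have h : B (y + d) (w + b) = 0 := by
    simp only [map_add, LinearMap.add_apply, h2, B_comm d w, h3, ← hyy, hyw, ← hbb, hdb]
    rw [add_zero, zero_add, CharTwo.add_self_eq_zero]
  refine ⟨qE (y + d) (w + b) h 0, ?_, ?_, fun v e1 e2 => by simp [e1, e2]⟩
  · simp only [qE_apply, map_add, B_self, h1, h2, B_comm y w, hyw, zero_mul, zero_smul, add_zero,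
      zero_add, one_smul]
    rw [← add_assoc, show y + y + d = d by
      rw [← two_nsmul, ← Nat.cast_smul_eq_nsmul F, CharP.cast_eq_zero, zero_smul, zero_add]]
  · simp only [qE_apply, map_add, B_self, h3, h4, hyw, zero_mul, zero_smul, add_zero, zero_add,
      one_smul]
    rw [← add_assoc, show w + w + b = b by
      rw [← two_nsmul, ← Nat.cast_smul_eq_nsmul F, CharP.cast_eq_zero, zero_smul, zero_add]]

theorem vec_add_self (v : V) : v + v = 0 := by
  rw [← two_nsmul, ← Nat.cast_smul_eq_nsmul F, CharP.cast_eq_zero, zero_smul]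

/-- The common computation: `z = q(y; b, t)` and `z' = q(d; e, t)`. -/
theorem four_computation {y w d b e : V} (t : F) (hb : B y b = 0) (he : B d e = 0)
    (hwy : B w y = 1) (hwd : B w d = 0) (hwb : B w b = 0) (hyd : B y d = 0) (hdb : B d b = 1)
    (hye : B y e = 0) (hbe : B b e = 0) (hne : e + (t • d + t • y) + B w e • y ≠ 0) :
    (qE y b hb t * qE d e he t) ^ 4 = 1 ∧ (qE y b hb t * qE d e he t) ^ 2 ≠ 1 := by
  set z := qE y b hb t with hz
  set z' := qE d e he t with hz'
  constructor
  · refine mul_pow_four_of_commute (qE_sq _ _) (qE_sq _ _) ?_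
    have hzi : z * z' * z = z * z' * z⁻¹ := by
      congr 1
      exact (inv_eq_of_mul_eq_one_right (qE_sq _ _)).symm
    rw [hzi, hz', qE_conj]
    apply sp_ext
    intro v
    rw [Submonoid.coe_mul, Submonoid.coe_mul, ← Matrix.mulVec_mulVec, ← Matrix.mulVec_mulVec]
    simp only [hz, qE_apply, map_add, map_smul, LinearMap.add_apply, LinearMap.smul_apply,
      smul_eq_mul, B_self, B_comm d y, hyd, hdb, he, hye, B_comm e y, B_comm e b, hbe,
      B_comm e d, B_comm b d, B_comm y b, hb, B_comm b y, mul_zero, add_zero, zero_add, zero_smul,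
      zero_mul]
    module
  · intro h2
    apply hne
    have h2' := congrArg (fun g : Sp => (g : Mat) *ᵥ w) h2
    rw [pow_two] at h2'
    simp only [Submonoid.coe_mul, ← Matrix.mulVec_mulVec, OneMemClass.coe_one,
      Matrix.one_mulVec] at h2'
    simp only [hz, hz', qE_apply, map_add, map_smul, LinearMap.add_apply, LinearMap.smul_apply,
      smul_eq_mul, B_self, hwy, hwd, hwb, B_comm d y, hyd, hdb, he, hye, B_comm e y, B_comm e b,
      hbe, B_comm e d, B_comm b d, B_comm b y, hb, mul_zero, add_zero, zero_add, zero_smul,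
      zero_mul, mul_one, one_smul, one_mul] at h2'
    have key : ∀ a : V, a + a = 0 := vec_add_self
    linear_combination (norm := skip) h2'
    match_scalars <;> ring_nf <;> simp [CharTwo.two_eq_zero]

/-- If `b` is not on the point `y` and either `t ≠ 0` or `m ≥ 3`, `q(y; b, t)` has a conjugate
with product of order four. -/
theorem not_noFour {y b : V} (hy : y ≠ 0) (hb : B y b = 0) (t : F) (hby : ∀ k : F, b ≠ k • y)
    (hcase : t ≠ 0 ∨ 3 ≤ m) : ¬ NoFour (proj m F (qE y b hb t)) := by
  obtain ⟨w, hw⟩ := exists_not_orth hy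
  -- make `b` orthogonal to `w`
  set b' := b + B w b • y with hb'
  have hb'y : B y b' = 0 := by simp [hb', hb, B_self]
  have hwb : B w b' = 0 := by simp [hb', hw, CharTwo.add_self_eq_zero]
  have heq : qE y b hb t = qE y b' hb'y t := sp_ext fun v => by
    simp only [qE_apply, hb', map_add, map_smul, smul_eq_mul]
    have e := vec_add_self (m := m) ((B w b * B v y) • y)
    linear_combination (norm := module) -e
  have hb'0 : b' ≠ 0 := fun e => hby (B w b) (by
    rw [← sub_eq_zero, sub_eq_add_neg, ← neg_smul, neg_eq_self]; exact e)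
  -- a partner `d` of `b'`
  obtain ⟨d0, hd0⟩ := exists_not_orth hb'0
  set d := d0 + B d0 w • y + B d0 y • w with hd
  have hyd : B y d = 0 := by
    simp [hd, B_self, B_comm y w, hw, B_comm y d0, CharTwo.add_self_eq_zero]
  have hwd : B w d = 0 := by
    simp [hd, B_self, hw, B_comm w d0, CharTwo.add_self_eq_zero]
  have hdb : B d b' = 1 := by simp [hd, hd0, hb'y, hwb]
  have hd00 : B d d = 0 := B_self d
  rw [heq]
  intro hno
  -- the conjugate and the vector `e`
  suffices ∃ (s : Sp) (e : V), (s : Mat) *ᵥ y = d ∧ (s : Mat) *ᵥ b' = e ∧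
      B d e = 0 ∧ B y e = 0 ∧ B b' e = 0 ∧ e + (t • d + t • y) + B w e • y ≠ 0 by
    obtain ⟨s, e, hs1, hs2, he, hye, hbe, hne⟩ := this
    have h := four_computation t hb'y he hw hwd hwb hyd hdb hye hbe hne
    have hc : s * qE y b' hb'y t * s⁻¹ = qE d e he t := by
      rw [qE_conj]; simp only [hs1, hs2]
    have := hno (proj m F s) (by
      rw [← map_inv, ← map_mul, ← map_mul, ← map_mul, ← map_pow, hc, h.1, map_one])
    rw [← map_inv, ← map_mul, ← map_mul, ← map_mul, ← map_pow, hc, ← map_one (proj m F)] at this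
    exact h.2 (proj_injective this)
  obtain ⟨s1, hs1y, hs1w, hs1f⟩ := exists_swap hw (by rw [B_comm]; exact hdb) hyd hb'y hwd hwb
  have hs1b : (s1 : Mat) *ᵥ b' = w := by
    apply sp_mulVec_injective s1
    show (s1 : Mat) *ᵥ ((s1 : Mat) *ᵥ b') = (s1 : Mat) *ᵥ w
    rw [hs1w, Matrix.mulVec_mulVec, ← Submonoid.coe_mul]
    have hsq : s1 * s1 = 1 := by
      apply sp_ext
      intro v
      obtain ⟨a, c, g1, g2, hv, e1, e2⟩ : ∃ (a : V) (c g1 g2 : F),
          v = a + c • y + g1 • w + g2 • b' ∧ B a (y + d) = 0 ∧ B a (w + b') = 0 := by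
        refine ⟨v - (B v (w + b')) • y - (B v (y + d)) • w, B v (w + b'), B v (y + d), 0,
          by module, ?_, ?_⟩
        · simp [B_self, hyd, hw, hwd]
        · simp [B_self, hwb, hb'y, B_comm y w, hw]
      subst hv
      rw [Submonoid.coe_mul, ← Matrix.mulVec_mulVec, OneMemClass.coe_one, Matrix.one_mulVec]
      have hd' : (s1 : Mat) *ᵥ d = y := by
        have e3 : (s1 : Mat) *ᵥ (y + d) = y + d := hs1f _ (B_self _) (by
          simp [B_comm d w, hwd, hb'y, B_comm y w, hw, hdb, CharTwo.add_self_eq_zero])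
        rw [Matrix.mulVec_add, hs1y] at e3
        linear_combination (norm := module) e3
      have hb'' : (s1 : Mat) *ᵥ b' = w := by
        have e3 : (s1 : Mat) *ᵥ (w + b') = w + b' := hs1f _ (by
          simp [hwd, B_comm b' y, hb'y, hw, B_comm b' d, hdb, CharTwo.add_self_eq_zero])
          (B_self _)
        rw [Matrix.mulVec_add, hs1w] at e3
        linear_combination (norm := module) e3
      simp only [Matrix.mulVec_add, Matrix.mulVec_smul, hs1f a e1 e2, hs1y, hs1w, hd', hb'']
    rw [hsq, OneMemClass.coe_one, Matrix.one_mulVec]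
  by_cases hm : 3 ≤ m
  · -- a third hyperbolic pair
    obtain ⟨e, he, hye, hwe, hbe, hde⟩ : ∃ e : V, e ≠ 0 ∧ B y e = 0 ∧ B w e = 0 ∧ B b' e = 0 ∧
        B d e = 0 := by
      let L : V →ₗ[F] (Fin 4 → F) := LinearMap.pi fun i =>
        (spB m F) (![y, w, b', d] i)
      have hker : LinearMap.ker L ≠ ⊥ := by
        intro hk
        have := LinearMap.finrank_le_finrank_of_injective (LinearMap.ker_eq_bot.1 hk)
        simp at this
        omega
      obtain ⟨e, hmem, he⟩ := Submodule.exists_mem_ne_zero_of_ne_bot hker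
      have hL := congrFun (LinearMap.mem_ker.1 hmem)
      exact ⟨e, he, hL 0, hL 1, hL 2, hL 3⟩
    obtain ⟨f0, hf0⟩ := exists_not_orth he
    set f := f0 + B f0 w • y + B f0 y • w + B f0 d • b' + B f0 b' • d with hf
    have hfy : B f y = 0 := by
      simp [hf, B_self, hw, B_comm b' y, hb'y, B_comm d y, hyd, CharTwo.add_self_eq_zero]
    have hfw : B f w = 0 := by
      simp [hf, B_self, B_comm y w, hw, B_comm b' w, hwb, B_comm d w, hwd,
        CharTwo.add_self_eq_zero]
    have hfb : B f b' = 0 := by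
      simp [hf, B_self, hb'y, hwb, hdb, CharTwo.add_self_eq_zero]
    have hfd : B f d = 0 := by
      simp [hf, B_self, hyd, hwd, B_comm b' d, hdb, CharTwo.add_self_eq_zero]
    have hfe : B f e = 1 := by simp [hf, hf0, hye, hwe, hbe, hde]
    obtain ⟨s2, hs2w, -, hs2f⟩ := exists_swap (y := w) (w := y) (d := e) (b := f)
      (by rw [B_comm]; exact hw) hfe hwe (by rw [B_comm]; exact hfw) hye
      (by rw [B_comm]; exact hfy)
    have hs2d : (s2 : Mat) *ᵥ d = d := hs2f d (by simp [B_comm d w, hwd, hde])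
      (by simp [B_comm d y, hyd, B_comm d f, hfd])
    refine ⟨s2 * s1, e, ?_, ?_, hde, hye, hbe, ?_⟩
    · rw [Submonoid.coe_mul, ← Matrix.mulVec_mulVec, hs1y, hs2d]
    · rw [Submonoid.coe_mul, ← Matrix.mulVec_mulVec, hs1b, hs2w]
    · intro h0
      have := congrArg (B f) h0
      simp [hwe, hfe, hfd, hfy] at this
  · have ht : t ≠ 0 := hcase.resolve_right hm
    refine ⟨tr (y + w) 1 * s1, y, ?_, ?_, (B_eq_zero_comm _ _).1 hyd, B_self y,
      (B_eq_zero_comm _ _).1 hb'y, ?_⟩
    · rw [Submonoid.coe_mul, ← Matrix.mulVec_mulVec, hs1y, tr_apply]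
      simp [B_comm d y, hyd, B_comm d w, hwd]
    · rw [Submonoid.coe_mul, ← Matrix.mulVec_mulVec, hs1b, tr_apply]
      simp [hw, B_self]
      rw [← add_assoc, add_comm w y, add_assoc, vec_add_self, add_zero]
    · intro h0
      have := congrArg (B w) h0
      simp [hw, hwd, CharTwo.add_self_eq_zero] at this
      exact ht (by linear_combination this - (CharTwo.two_eq_zero : (2 : F) = 0))

variable [Finite F]

/-- The image of a transvection in characteristic two. -/
theorem image_tr_two (φ : MulAut PSpG) {x : V} (hx : x ≠ 0) {c : F} (hc : c ≠ 0) :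
    (∃ (y : V) (d : F), y ≠ 0 ∧ d ≠ 0 ∧ φ (proj m F (tr x c)) = proj m F (tr y d)) ∨
      (m < 3 ∧ ∃ (y b : V) (h : B y b = 0), y ≠ 0 ∧ (∀ k : F, b ≠ k • y) ∧
        φ (proj m F (tr x c)) = proj m F (qE y b h 0)) := by
  obtain ⟨y, hy, b, hb, t, e, -⟩ := exists_image_qE 2 φ hx c
  by_cases hby : ∃ k : F, b = k • y
  · obtain ⟨k, rfl⟩ := hby
    left
    rw [qE_smul_self] at e
    refine ⟨y, _, hy, fun h0 => ?_, e⟩
    rw [h0, tr_zero, map_one, map_eq_one_iff φ φ.injective, ← map_one (proj m F)] at e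
    exact tr_ne_one hx hc (proj_injective e)
  · push Not at hby
    have hno : NoFour (proj m F (qE y b hb t)) := e ▸ (noFour_tr x c).map φ
    have h : t = 0 ∧ m < 3 := by
      by_contra hcon
      exact not_noFour hy hb t hby (by
        rcases not_and_or.1 hcon with h | h
        · exact Or.inl h
        · exact Or.inr (not_lt.1 h)) hno
    obtain ⟨rfl, hm⟩ := h
    exact Or.inr ⟨hm, y, b, hb, hy, hby, e⟩

end Cfsg.Agent.AutPSp
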