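import Cfsg.Agent.Lib.AutPSp.Geometry
import Cfsg.Agent.Lib.AutPSp.CharTwo
import Cfsg.Agent.Lib.AutPSL.Normal
import Cfsg.Agent.Lib.AutPSL.Counts

/-!
# Automorphisms of `PSp_{2m}` preserving the transvections

Such an automorphism is induced by a semilinear similitude, uniquely up to scalars.  Also the
orders `|GSp|`, `|PGSp|` and the identification of the subgroups of the automorphism group.
-/

set_option autoImplicit false

namespace Cfsg.Agent.AutPSp

open Matrix Cfsg.Agent.FormsLib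

universe u

variable {m : ℕ} {F : Type u} [Field F]

local notation "V" => Fin m ⊕ Fin m → F
local notation "Sp" => Matrix.symplecticGroup (Fin m) F
local notation "PSpG" => Cfsg.PSp m F
local notation "Mat" => Matrix (Fin m ⊕ Fin m) (Fin m ⊕ Fin m) F
local notation "GLV" => GL (Fin m ⊕ Fin m) F
local notation "B" => spB m F

/-- An automorphism maps transvections to transvections. -/
def TPres (φ : MulAut PSpG) : Prop :=
  ∀ (x : V) (c : F), x ≠ 0 → c ≠ 0 →
    ∃ (y : V) (d : F), y ≠ 0 ∧ d ≠ 0 ∧ φ (proj m F (tr x c)) = proj m F (tr y d)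

/-- The automorphism induced by the semilinear similitude `(g, σ)`. -/
noncomputable def stdA (g : Cfsg.GSp m F) (σ : F ≃+* F) : MulAut PSpG := descend (cj g * fld σ)

theorem stdA_proj (g : Cfsg.GSp m F) (σ : F ≃+* F) (s : Sp) :
    stdA g σ (proj m F s) = proj m F (cj g (fld σ s)) := rfl

theorem stdA_tr (g : Cfsg.GSp m F) (σ : F ≃+* F) (x : V) (c : F) :
    stdA g σ (proj m F (tr x c)) =
      proj m F (tr (((g : GLV) : Mat) *ᵥ vmap σ x) (σ c * (↑(mult g)⁻¹ : F))) := by
  rw [stdA_proj, fld_tr, cj_tr]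

theorem semilinear_ne_zero (g : Cfsg.GSp m F) (σ : F ≃+* F) {x : V} (hx : x ≠ 0) :
    ((g : GLV) : Mat) *ᵥ vmap σ x ≠ 0 := fun e =>
  vmap_ne_zero σ hx (gsp_mulVec_injective g (a₁ := vmap σ x) (a₂ := 0) (by simpa using e))

theorem semilinear_surjective (g : Cfsg.GSp m F) (σ : F ≃+* F) (y : V) :
    ∃ x : V, ((g : GLV) : Mat) *ᵥ vmap σ x = y := by
  obtain ⟨w, rfl⟩ := gsp_mulVec_surjective g y
  obtain ⟨x, rfl⟩ := vmap_surjective σ w
  exact ⟨x, rfl⟩

theorem tpres_stdA_symm (g : Cfsg.GSp m F) (σ : F ≃+* F) : TPres (stdA g σ)⁻¹ := by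
  intro y d hy hd
  obtain ⟨x, rfl⟩ := semilinear_surjective g σ y
  refine ⟨x, σ.symm (d * (mult g : F)), fun e => hy (by rw [e]; simp [vmap, funext_iff, Matrix.mulVec, dotProduct]),
    fun e => hd ?_, ?_⟩
  · simpa using e
  · apply (stdA g σ).injective
    rw [MulAut.apply_inv_self, stdA_tr, RingEquiv.apply_symm_apply, mul_assoc, Units.mul_inv,
      mul_one]

theorem TPres.mul {φ ψ : MulAut PSpG} (h : TPres φ) (h' : TPres ψ) : TPres (φ * ψ) := by
  intro x c hx hc
  obtain ⟨y, d, hy, hd, e⟩ := h' x c hx hc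
  obtain ⟨z, e', hz, he, eq⟩ := h y d hy hd
  exact ⟨z, e', hz, he, by rw [MulAut.mul_apply, e, eq]⟩

variable (p : ℕ) [Fact p.Prime] [CharP F p]

include p in
theorem proj_tr_eq {x y : V} (hx : x ≠ 0) {c d : F} (hc : c ≠ 0)
    (h : proj m F (tr x c) = proj m F (tr y d)) : ∃ a : F, y = a • x := by
  refine tr_eq_tr hx hc (eq_of_proj_eq p (k := 1) (l := 1) ?_ ?_ h) <;>
    rw [pow_one] <;> exact tr_pow_char p _ _

include p in
theorem proj_commute_iff {x y : V} (hx : x ≠ 0) (hy : y ≠ 0) {c d : F} (hc : c ≠ 0) (hd : d ≠ 0) :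
    proj m F (tr x c) * proj m F (tr y d) = proj m F (tr y d) * proj m F (tr x c) ↔ B x y = 0 := by
  refine ⟨fun h => (tr_commute_iff hx hy hc hd).1 ?_, fun h => by
    rw [← map_mul, (tr_commute_iff hx hy hc hd).2 h, map_mul]⟩
  have e : tr x c * tr y d * (tr x c)⁻¹ = tr y d := by
    rw [tr_conj]
    refine eq_of_proj_eq p (k := 1) (l := 1) (by rw [pow_one]; exact tr_pow_char p _ _)
      (by rw [pow_one]; exact tr_pow_char p _ _) ?_
    rw [← tr_conj, map_mul, map_mul, map_inv, h, mul_inv_cancel_right]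
  exact mul_inv_eq_iff_eq_mul.1 e

include p in
/-- An automorphism fixing every transvection point is trivial. -/
theorem eq_one_of_fix_points {ψ : MulAut PSpG}
    (h : ∀ x : V, x ≠ 0 → ∃ d : F, d ≠ 0 ∧ ψ (proj m F (tr x 1)) = proj m F (tr x d)) : ψ = 1 := by
  refine MulEquiv.ext fun a => ?_
  obtain ⟨s, rfl⟩ := proj_surjective a
  obtain ⟨s', hs'⟩ := proj_surjective (ψ (proj m F s))
  rw [MulAut.one_apply, ← hs']
  refine (proj_eq_of_points fun x hx => ?_).symm
  obtain ⟨d, hd, e⟩ := h x hx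
  have hsx : (s : Mat) *ᵥ x ≠ 0 := fun e0 =>
    hx (sp_mulVec_injective s (a₁ := x) (a₂ := 0) (by simpa using e0))
  obtain ⟨d', hd', e'⟩ := h _ hsx
  rw [← tr_conj, map_mul, map_mul, map_inv, map_mul, map_mul, map_inv, e, ← hs', ← map_inv,
    ← map_mul, ← map_mul, tr_conj] at e'
  exact proj_tr_eq p hsx hd' e'.symm

variable [Finite F]

include p in
/-- The normal form of a transvection-preserving automorphism. -/
theorem exists_normal_form_of_tpres (hm : 2 ≤ m) {φ : MulAut PSpG} (hφ : TPres φ) :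
    ∃ (g : Cfsg.GSp m F) (σ : F ≃+* F), φ = stdA g σ := by
  classical
  choose! y d hy hd e using fun x : V => fun hx : x ≠ 0 => hφ x 1 hx one_ne_zero
  have horth : OrthMap y := by
    refine ⟨hy, fun a b ha hb => ?_⟩
    rw [← proj_commute_iff p ha hb one_ne_zero one_ne_zero,
      ← proj_commute_iff p (hy a ha) (hy b hb) (hd a ha) (hd b hb), ← e a ha, ← e b hb]
    simp only [← map_mul, φ.injective.eq_iff]
  obtain ⟨g, σ, hg⟩ := exists_semilinear hm horth
  refine ⟨g, σ, ?_⟩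
  have hψ : (stdA g σ)⁻¹ * φ = 1 := by
    refine eq_one_of_fix_points p fun x hx => ?_
    obtain ⟨c, hc, hyc⟩ := hg x hx
    refine ⟨σ.symm (d x * c * c * (mult g : F)), ?_, ?_⟩
    · simp [hd x hx, hc]
    · apply (stdA g σ).injective
      rw [MulAut.mul_apply, MulAut.apply_inv_self, e x hx, stdA_tr, RingEquiv.apply_symm_apply,
        mul_assoc _ (mult g : F), Units.mul_inv, mul_one, hyc, tr_smul]
      congr 2
      ring
  exact (inv_mul_eq_one.1 hψ).symm

include p in
/-- Uniqueness: the trivial automorphism comes from scalars only. -/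
theorem stdA_eq_one (hm : 1 ≤ m) {g : Cfsg.GSp m F} {σ : F ≃+* F} (h : stdA g σ = 1) :
    σ = RingEquiv.refl F ∧ (g : GLV) ∈ Cfsg.Geo.scalars (Fin m ⊕ Fin m) F := by
  classical
  have hpt : ∀ x : V, x ≠ 0 → ∃ a : F, ((g : GLV) : Mat) *ᵥ vmap σ x = a • x := by
    intro x hx
    have e := stdA_tr g σ x 1
    rw [h, MulAut.one_apply, map_one, one_mul] at e
    exact proj_tr_eq p hx one_ne_zero e
  have hbv : ∀ i, vmap σ (bv i : V) = bv i := fun i => funext fun k => by
    simp [vmap, bv, Pi.single_apply, apply_ite σ]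
  choose a ha using fun i => hpt _ (bv_ne_zero i)
  have ha' : ∀ i, ((g : GLV) : Mat) *ᵥ bv i = a i • bv i := fun i => by
    rw [← ha i, hbv]
  have hne : ∀ i, a i ≠ 0 := fun i e => by
    have := gsp_mulVec_injective g (a₁ := bv i) (a₂ := 0) (by simp [ha', e])
    exact bv_ne_zero i this
  let i0 : Fin m ⊕ Fin m := .inl ⟨0, hm⟩
  let i1 : Fin m ⊕ Fin m := .inr ⟨0, hm⟩
  have key : ∀ i j, i ≠ j → ∀ t : F, σ t * a j = t * a i := by
    intro i j hij t
    obtain ⟨c, hc⟩ := hpt _ (pairV_ne_zero hij one_ne_zero t)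
    have e : vmap σ (pairV i j 1 t) = pairV i j 1 (σ t) := by
      have hadd : ∀ u v : V, vmap σ (u + v) = vmap σ u + vmap σ v :=
        fun u v => funext fun _ => map_add σ _ _
      simp [pairV, hadd, vmap_smul, hbv]
    rw [e] at hc
    simp only [pairV, Matrix.mulVec_add, Matrix.mulVec_smul, ha'] at hc
    have e1 := congrFun hc i
    have e2 := congrFun hc j
    simp [bv, hij, Ne.symm hij] at e1 e2
    rw [e2, ← e1]; ring
  have hconst : ∀ i, a i = a i0 := by
    intro i
    by_cases hi : i = i0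
    · rw [hi]
    · simpa using (key i0 i (Ne.symm hi) 1)
  refine ⟨RingEquiv.ext fun t => mul_right_cancel₀ (hne i0) ?_, ?_⟩
  · have := key i0 i1 (by simp [i0, i1]) t
    rwa [hconst i1] at this
  · rw [Cfsg.Geo.mem_scalars_iff]
    refine ⟨Units.mk0 _ (hne i0), ?_⟩
    ext i j
    have e := congrFun (ha' j) i
    simp [bv, hconst] at e
    simpa [Matrix.one_apply, Pi.single_apply] using e

theorem cj_scalar {g : Cfsg.GSp m F} (hg : (g : GLV) ∈ Cfsg.Geo.scalars (Fin m ⊕ Fin m) F) :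
    cj g = 1 := by
  obtain ⟨c, hc⟩ := (Cfsg.Geo.mem_scalars_iff _).1 hg
  refine MulEquiv.ext fun s => Subtype.ext ?_
  have h1 : ((g : GLV) : Mat) * (s : Mat) = (s : Mat) * ((g : GLV) : Mat) := by
    rw [hc, Matrix.smul_mul, one_mul, Matrix.mul_smul, mul_one]
  rw [cj_coe, h1, Matrix.mul_assoc, ← Units.val_mul, mul_inv_cancel, Units.val_one, mul_one]
  rfl

/-- `PGSp` acting on `PSp`. -/
noncomputable def pgHom : Cfsg.PGSp m F →* MulAut PSpG :=
  QuotientGroup.lift _ (descend.comp cj) fun g hg => by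
    rw [MonoidHom.mem_ker, MonoidHom.comp_apply, cj_scalar hg, map_one]

theorem stdA_eq_pgHom (g : Cfsg.GSp m F) (σ : F ≃+* F) :
    stdA g σ = pgHom (QuotientGroup.mk g) * descend (fld σ) := map_mul descend _ _

theorem descend_fld_one : descend (fld (RingEquiv.refl F) : MulAut Sp) = 1 := by
  rw [fld_one, map_one]

/-- The parametrisation of transvection-preserving automorphisms. -/
noncomputable def param : Cfsg.PGSp m F × (F ≃+* F) → MulAut PSpG :=
  fun x => pgHom x.1 * descend (fld x.2)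

include p in
theorem param_injective (hm : 1 ≤ m) : Function.Injective (param (m := m) (F := F)) := by
  rintro ⟨a, σ⟩ ⟨b, τ⟩ h
  obtain ⟨a, rfl⟩ := QuotientGroup.mk_surjective a
  obtain ⟨b, rfl⟩ := QuotientGroup.mk_surjective b
  have e : stdA (b⁻¹ * a) (RingEquiv.refl F) = descend (fld τ * (fld σ)⁻¹) := by
    simp only [param, pgHom, QuotientGroup.lift_mk, MonoidHom.comp_apply] at h
    simp only [stdA, fld_one, mul_one, map_mul, map_inv]
    rw [eq_mul_inv_iff_mul_eq, mul_assoc, h, inv_mul_cancel_left]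
  have hσ : (fld τ * (fld σ)⁻¹ : MulAut Sp) = fld (σ.symm.trans τ) := by
    rw [mul_inv_eq_iff_eq_mul, fld_mul]
    congr 1
    exact RingEquiv.ext fun x => by simp
  rw [hσ] at e
  have e' : stdA (b⁻¹ * a)⁻¹ (σ.symm.trans τ) = 1 := by
    rw [stdA, map_mul, ← e, stdA, fld_one, mul_one, ← map_mul, ← map_mul, inv_mul_cancel, map_one,
      map_one]
  obtain ⟨h1, h2⟩ := stdA_eq_one p hm e'
  refine Prod.ext ?_ ?_
  · refine ((QuotientGroup.eq).2 ?_).symm
    show ((b⁻¹ * a : Cfsg.GSp m F) : GLV) ∈ Cfsg.Geo.scalars (Fin m ⊕ Fin m) F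
    rw [← inv_inv (b⁻¹ * a), Subgroup.coe_inv]
    exact inv_mem h2
  · refine RingEquiv.ext fun x => ?_
    have := RingEquiv.congr_fun h1 (σ x)
    simpa using this.symm

include p in
theorem tpres_of_cases (h : m = 2 → p ≠ 2) (hm : 2 ≤ m) (φ : MulAut PSpG) : TPres φ := by
  intro x c hx hc
  by_cases hp : p = 2
  · subst hp
    rcases image_tr_two φ hx hc with h1 | ⟨h3, -⟩
    · exact h1
    · exact absurd rfl (h (by omega))
  · exact image_tr_odd p hp φ hx hc

include p in
/-- All automorphisms, away from `Sp_4` in characteristic two. -/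
theorem exists_normal_form (hm : 2 ≤ m) (h : m = 2 → p ≠ 2) (φ : MulAut PSpG) :
    ∃ (g : Cfsg.GSp m F) (σ : F ≃+* F), φ = stdA g σ :=
  exists_normal_form_of_tpres p hm (tpres_of_cases p h hm φ)

include p in
/-- The automorphisms mapping transvections to transvections, counted. -/
theorem card_tpres (hm : 2 ≤ m) :
    Nat.card {φ : MulAut PSpG // TPres φ} = Nat.card (Cfsg.PGSp m F) * Nat.card (F ≃+* F) := by
  rw [← Nat.card_prod]
  symm
  refine Nat.card_congr (Equiv.ofBijective (fun x => ⟨param x, ?_⟩) ⟨?_, ?_⟩)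
  · obtain ⟨g, hg⟩ := QuotientGroup.mk_surjective x.1
    intro v c hv hc
    refine ⟨_, _, semilinear_ne_zero g x.2 hv, ?_, by
      rw [param, ← hg, ← stdA_eq_pgHom]; exact stdA_tr g x.2 v c⟩
    simp [hc]
  · intro a b hab
    exact param_injective p (by omega) (congrArg Subtype.val hab)
  · rintro ⟨φ, hφ⟩
    obtain ⟨g, σ, rfl⟩ := exists_normal_form_of_tpres p hm hφ
    exact ⟨(QuotientGroup.mk g, σ), Subtype.ext (stdA_eq_pgHom g σ).symm⟩

/-! ### Orders -/

/-- The multiplier as a homomorphism. -/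
noncomputable def multHom (hm : 1 ≤ m) : Cfsg.GSp m F →* Fˣ where
  toFun := mult
  map_one' := by
    obtain ⟨w, hw⟩ := exists_not_orth (bv_ne_zero (F := F) (.inl (⟨0, hm⟩ : Fin m)))
    have e := mult_spec (1 : Cfsg.GSp m F) w (bv (.inl ⟨0, hm⟩))
    simp [hw] at e
    exact Units.ext e.symm
  map_mul' g h := by
    obtain ⟨w, hw⟩ := exists_not_orth (bv_ne_zero (F := F) (.inl (⟨0, hm⟩ : Fin m)))
    have e := mult_spec (g * h) w (bv (.inl ⟨0, hm⟩))
    rw [Subgroup.coe_mul, Units.val_mul, ← Matrix.mulVec_mulVec, ← Matrix.mulVec_mulVec, mult_spec,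
      mult_spec, hw, mul_one, mul_one] at e
    exact Units.ext (by rw [Units.val_mul]; exact e.symm)

/-- The similitude scaling the first half of the coordinates. -/
def halfScale (c : Fˣ) : GLV where
  val := Matrix.diagonal (Sum.elim (fun _ => (c : F)) fun _ => 1)
  inv := Matrix.diagonal (Sum.elim (fun _ => (↑c⁻¹ : F)) fun _ => 1)
  val_inv := by
    rw [Matrix.diagonal_mul_diagonal, ← Matrix.diagonal_one]; congr 1; funext i; cases i <;> simp
  inv_val := by
    rw [Matrix.diagonal_mul_diagonal, ← Matrix.diagonal_one]; congr 1; funext i; cases i <;> simp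

theorem halfScale_spec (c : Fˣ) (u v : V) :
    B ((halfScale c : GLV).1 *ᵥ u) ((halfScale c : GLV).1 *ᵥ v) = (c : F) * B u v := by
  simp [halfScale, spB_expand, Matrix.mulVec_diagonal]
  rw [mul_sub, Finset.mul_sum, Finset.mul_sum]
  congr 1 <;> exact Finset.sum_congr rfl fun i _ => by ring

theorem halfScale_mem (c : Fˣ) : (halfScale c : GLV) ∈ Cfsg.GSp m F :=
  mem_GSp.2 ⟨c, halfScale_spec c⟩

theorem multHom_surjective (hm : 1 ≤ m) : Function.Surjective (multHom (F := F) hm) := fun c => by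
  refine ⟨⟨_, halfScale_mem c⟩, ?_⟩
  obtain ⟨w, hw⟩ := exists_not_orth (bv_ne_zero (F := F) (.inl (⟨0, hm⟩ : Fin m)))
  have e := mult_spec ⟨_, halfScale_mem c⟩ w (bv (.inl ⟨0, hm⟩))
  rw [halfScale_spec, hw, mul_one, mul_one] at e
  exact Units.ext e.symm

/-- A symplectic matrix as a similitude. -/
noncomputable def spToG : Sp →* Cfsg.GSp m F where
  toFun s := ⟨⟨s.1, ((s⁻¹ : Sp) : Mat), congrArg Subtype.val (mul_inv_cancel s),
    congrArg Subtype.val (inv_mul_cancel s)⟩, mem_GSp.2 ⟨1, fun u v => by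
      rw [Units.val_one, one_mul]; exact B_sp s u v⟩⟩
  map_one' := Subtype.ext (Units.ext rfl)
  map_mul' _ _ := Subtype.ext (Units.ext rfl)

theorem cj_spToG (s : Sp) : cj (spToG s) = MulAut.conj s :=
  MulEquiv.ext fun _ => Subtype.ext rfl

theorem card_GSp (hm : 1 ≤ m) :
    Nat.card (Cfsg.GSp m F) = Nat.card Sp * (Nat.card F - 1) := by
  rw [Subgroup.card_eq_card_quotient_mul_card_subgroup (multHom (F := F) hm).ker,
    Nat.card_congr (QuotientGroup.quotientKerEquivOfSurjective _ (multHom_surjective hm)).toEquiv,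
    Nat.card_units, mul_comm]
  congr 1
  symm
  refine Nat.card_congr (Equiv.ofBijective (fun s => ⟨spToG s, ?_⟩) ⟨?_, ?_⟩)
  · obtain ⟨w, hw⟩ := exists_not_orth (bv_ne_zero (F := F) (.inl (⟨0, hm⟩ : Fin m)))
    have e := mult_spec (spToG s) w (bv (.inl ⟨0, hm⟩))
    rw [show ((spToG s : Cfsg.GSp m F) : GLV).1 = (s : Mat) from rfl, B_sp, hw, mul_one] at e
    exact Units.ext e.symm
  · intro a b hab
    exact Subtype.ext (congrArg (fun g => ((g.1 : Cfsg.GSp m F) : GLV).1) hab)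
  · rintro ⟨g, hg⟩
    have hg1 : mult g = 1 := hg
    refine ⟨⟨((g : GLV) : Mat), (mem_symplectic_iff _).2 fun u v => ?_⟩, Subtype.ext (Subtype.ext
      (Units.ext rfl))⟩
    rw [mult_spec, hg1, Units.val_one, one_mul]

theorem card_PGSp (hm : 1 ≤ m) : Nat.card (Cfsg.PGSp m F) = Nat.card Sp := by
  have h1 := card_GSp (F := F) hm
  rw [Subgroup.card_eq_card_quotient_mul_card_subgroup
    ((Cfsg.Geo.scalars (Fin m ⊕ Fin m) F).subgroupOf (Cfsg.GSp m F))] at h1
  have hs : Cfsg.Geo.scalars (Fin m ⊕ Fin m) F ≤ Cfsg.GSp m F := by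
    rintro _ ⟨c, rfl⟩
    exact scalar_mem_GSp c
  rw [Nat.card_congr (Subgroup.subgroupOfEquivOfLe hs).toEquiv] at h1
  have hc : Nat.card (Cfsg.Geo.scalars (Fin m ⊕ Fin m) F) = Nat.card F - 1 := by
    rw [← Nat.card_units]
    refine (Nat.card_congr (Equiv.ofBijective
      (fun c : Fˣ => (⟨Matrix.GeneralLinearGroup.scalar (Fin m ⊕ Fin m) c,
        (Cfsg.Geo.mem_scalars_iff _).2 ⟨c, by simp [Matrix.GeneralLinearGroup.scalar,
          Matrix.smul_one_eq_diagonal]⟩⟩ : Cfsg.Geo.scalars (Fin m ⊕ Fin m) F)) ⟨?_, ?_⟩)).symm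
    · intro a b hab
      apply Units.ext
      have := congrFun (congrFun (congrArg (fun g => (g.1 : GLV).1) hab) (.inl ⟨0, hm⟩)) (.inl ⟨0, hm⟩)
      simpa [Matrix.GeneralLinearGroup.scalar] using this
    · rintro ⟨g, hg⟩
      obtain ⟨c, hc⟩ := (Cfsg.Geo.mem_scalars_iff _).1 hg
      refine ⟨c, Subtype.ext (Units.ext ?_)⟩
      simp [Matrix.GeneralLinearGroup.scalar, hc, Matrix.smul_one_eq_diagonal]
  rw [hc] at h1
  exact Nat.eq_of_mul_eq_mul_right (by
    have := Finite.one_lt_card (α := F); omega) h1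

theorem card_center_sp (hm : 1 ≤ m) [Fintype F] {f : ℕ} (hf : 1 ≤ f)
    (hF : Fintype.card F = p ^ f) :
    Nat.card (Subgroup.center Sp) = Nat.gcd 2 (p ^ f - 1) := by
  classical
  let negOne : Sp := ⟨-1, SymplecticGroup.neg_mem (one_mem _)⟩
  have hset : (Subgroup.center Sp : Set Sp) = {1, negOne} := by
    ext z
    simp only [SetLike.mem_coe, mem_center_iff, Set.mem_insert_iff, Set.mem_singleton_iff,
      Subtype.ext_iff, OneMemClass.coe_one]
    rfl
  rw [← SetLike.coe_sort_coe, Nat.card_coe_set_eq, hset]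
  rcases Nat.Prime.eq_two_or_odd' (Fact.out : p.Prime) with hp | hp
  · subst hp
    have : negOne = 1 := Subtype.ext (Matrix.ext fun i j => neg_eq_self _)
    rw [this, Set.pair_eq_singleton, Set.ncard_singleton]
    have : Odd (2 ^ f - 1) := Nat.Even.sub_odd (Nat.one_le_two_pow) (Nat.even_pow.2 ⟨even_two, by omega⟩) odd_one
    exact (Nat.coprime_two_left.2 this).gcd_eq_one.symm
  · have hne : (1 : Sp) ≠ negOne := by
      intro e
      have := congrFun (congrFun (congrArg Subtype.val e) (.inl ⟨0, hm⟩)) (.inl ⟨0, hm⟩)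
      simp [negOne] at this
      exact Ring.two_ne_zero (by rw [ringChar.eq F p]; rintro rfl; exact absurd hp (by decide))
        (by linear_combination this)
    rw [Set.ncard_pair hne, eq_comm, Nat.gcd_eq_left]
    exact even_iff_two_dvd.1 (Nat.Odd.sub_odd (hp.pow) odd_one)

theorem card_PGSp_eq (hm : 1 ≤ m) [Fintype F] {f : ℕ} (hf : 1 ≤ f)
    (hF : Fintype.card F = p ^ f) :
    Nat.card (Cfsg.PGSp m F) = Nat.gcd 2 (p ^ f - 1) * Nat.card PSpG := by
  rw [card_PGSp hm, Subgroup.card_eq_card_quotient_mul_card_subgroup (Subgroup.center Sp),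
    card_center_sp p hm hf hF, mul_comm]

/-! ### Predicates of the statements -/

theorem isInduced_iff (g : Cfsg.GSp m F) (σ : F ≃+* F) (β : MulAut PSpG) :
    Cfsg.IsInducedBySemilinearPSp (g : GLV) σ β ↔ β = stdA g σ := by
  constructor
  · intro h
    refine MulEquiv.ext fun x => ?_
    obtain ⟨s, rfl⟩ := proj_surjective x
    exact h s (cj g (fld σ s)) rfl
  · rintro rfl s s' hs'
    show stdA g σ (proj m F s) = proj m F s'
    rw [stdA_proj, show cj g (fld σ s) = s' from Subtype.ext hs'.symm]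

theorem gammaPSp_eq (h : ∀ φ : MulAut PSpG, ∃ (g : Cfsg.GSp m F) (σ : F ≃+* F), φ = stdA g σ) :
    Cfsg.gammaPSp m F = ⊤ := by
  refine (Subgroup.eq_top_iff' _).2 fun φ => ?_
  obtain ⟨g, σ, rfl⟩ := h φ
  exact Subgroup.subset_closure ⟨g, σ, g.2, (isInduced_iff g σ _).2 rfl⟩

theorem isStdField_iff (σ : F ≃+* F) (β : MulAut PSpG) :
    Cfsg.IsStdFieldAutPSp σ β ↔ β = descend (fld σ) := by
  constructor
  · intro h
    refine MulEquiv.ext fun x => ?_
    obtain ⟨s, rfl⟩ := proj_surjective x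
    exact h s (fld σ s) rfl
  · rintro rfl s s' hs'
    show descend (fld σ) (proj m F s) = proj m F s'
    rw [descend_proj, show fld σ s = s' from Subtype.ext hs'.symm]

theorem isInnerDiagonal_iff (β : MulAut PSpG) :
    Cfsg.IsInnerDiagonalAutPSp β ↔ β ∈ (descend.comp (cj (m := m) (F := F))).range := by
  constructor
  · rintro ⟨g, hg, h⟩
    refine ⟨⟨g, hg⟩, ?_⟩
    rw [(isInduced_iff ⟨g, hg⟩ _ β).1 h, stdA, fld_one, mul_one]
    rfl
  · rintro ⟨g, rfl⟩
    refine ⟨g, g.2, (isInduced_iff g _ _).2 ?_⟩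
    rw [stdA, fld_one, mul_one]
    rfl

theorem inndiag_eq : Cfsg.inndiagPSp m F = (descend.comp (cj (m := m) (F := F))).range := by
  have : {β : MulAut PSpG | Cfsg.IsInnerDiagonalAutPSp β} =
      ((descend.comp (cj (m := m) (F := F))).range : Set (MulAut PSpG)) :=
    Set.ext fun β => isInnerDiagonal_iff β
  show Subgroup.closure _ = _
  rw [this, Subgroup.closure_eq]

end Cfsg.Agent.AutPSp
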