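import Cfsg.Prelude.Def_LieTypeDatum
import Cfsg.Agent.Lib.Forms.SpSimple
import Mathlib

/-!
# Automorphisms of projective symplectic groups: basic maps

Semilinear automorphisms of `Sp_{2m}` and `PSp_{2m}`, symplectic transvections and the elements
of the unipotent radical attached to a point.
-/

set_option autoImplicit false

namespace Cfsg.Agent.AutPSp

open Matrix Cfsg.Agent.FormsLib

universe u

variable {m : ℕ} {F : Type u} [Field F]

local notation "V" => Fin m ⊕ Fin m → F
local notation "Sp" => Matrix.symplecticGroup (Fin m) F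
local notation "PSpG" => Cfsg.PSp m F
local notation "Mat" => Matrix (Fin m ⊕ Fin m) (Fin m ⊕ Fin m) F
local notation "GLV" => GL (Fin m ⊕ Fin m) F
local notation "B" => spB m F

theorem B_self (v : V) : B v v = 0 := spB_alt v

theorem B_swap (u v : V) : B u v = - B v u := alt_swap spB_alt v u

theorem B_eq_zero_comm (u v : V) : B u v = 0 ↔ B v u = 0 := by
  rw [B_swap, neg_eq_zero]

theorem B_eq_sympForm (u v : V) : B u v = Cfsg.sympForm m F u v := spB_apply u v

theorem sp_ext {s t : Sp} (h : ∀ v : V, (s : Mat) *ᵥ v = (t : Mat) *ᵥ v) : s = t :=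
  Subtype.ext (Matrix.ext_iff_mulVec.2 h)

theorem B_sp (s : Sp) (u v : V) : B ((s : Mat) *ᵥ u) ((s : Mat) *ᵥ v) = B u v :=
  (mem_symplectic_iff _).1 s.2 u v

theorem sp_coe_inv_mulVec (s : Sp) (v : V) : ((s⁻¹ : Sp) : Mat) *ᵥ ((s : Mat) *ᵥ v) = v := by
  rw [Matrix.mulVec_mulVec, ← Submonoid.coe_mul, inv_mul_cancel, Submonoid.coe_one, Matrix.one_mulVec]

theorem sp_coe_mulVec_inv (s : Sp) (v : V) : (s : Mat) *ᵥ (((s⁻¹ : Sp) : Mat) *ᵥ v) = v := by
  rw [Matrix.mulVec_mulVec, ← Submonoid.coe_mul, mul_inv_cancel, Submonoid.coe_one, Matrix.one_mulVec]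

theorem sp_mulVec_injective (s : Sp) : Function.Injective fun v : V => (s : Mat) *ᵥ v :=
  fun u v h => by
    have h' := congrArg (fun w => ((s⁻¹ : Sp) : Mat) *ᵥ w) h
    simp only [sp_coe_inv_mulVec] at h'
    exact h'

/-- If every vector is orthogonal to `x`, then `x = 0`. -/
theorem eq_zero_of_orth {x : V} (h : ∀ v : V, B v x = 0) : x = 0 :=
  spB_nondeg.2 x h

theorem exists_not_orth {x : V} (hx : x ≠ 0) : ∃ w : V, B w x = 1 := by
  obtain ⟨w, hw⟩ : ∃ w : V, B w x ≠ 0 := by
    by_contra hcon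
    push Not at hcon
    exact hx (eq_zero_of_orth hcon)
  exact ⟨(B w x)⁻¹ • w, by simp [inv_mul_cancel₀ hw]⟩

/-- If everything orthogonal to `x` is orthogonal to `y`, then `y` is a multiple of `x`. -/
theorem exists_smul_of_orth {x y : V} (h : ∀ v : V, B v x = 0 → B v y = 0) :
    ∃ a : F, y = a • x := by
  by_cases hx : x = 0
  · subst hx
    refine ⟨0, ?_⟩
    rw [zero_smul]
    exact eq_zero_of_orth fun v => h v (map_zero _)
  · obtain ⟨w, hw⟩ := exists_not_orth hx
    refine ⟨B w y, ?_⟩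
    rw [← sub_eq_zero]
    apply eq_zero_of_orth
    intro v
    have h1 := h (v - B v x • w) (by simp [hw])
    simp only [map_sub, map_smul, LinearMap.sub_apply, LinearMap.smul_apply, smul_eq_mul] at h1 ⊢
    linear_combination h1

/-! ### Root elements attached to a point -/

/-- The linear map `v ↦ v + B(v,a) x + B(v,x) a + t B(v,x) x`. -/
noncomputable def qLin (x a : V) (t : F) : V →ₗ[F] V :=
  LinearMap.id + ((spB m F).flip a).smulRight x + ((spB m F).flip x).smulRight a +
    (t • (spB m F).flip x).smulRight x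

theorem qLin_apply (x a : V) (t : F) (v : V) :
    qLin x a t v = v + B v a • x + B v x • a + (t * B v x) • x := rfl

theorem qMat_mem {x a : V} (h : B x a = 0) (t : F) :
    LinearMap.toMatrix' (qLin x a t) ∈ Matrix.symplecticGroup (Fin m) F := by
  rw [mem_symplectic_iff]
  intro u v
  rw [LinearMap.toMatrix'_mulVec, LinearMap.toMatrix'_mulVec, qLin_apply, qLin_apply]
  have h' : B a x = 0 := (B_eq_zero_comm _ _).1 h
  simp only [map_add, map_smul, LinearMap.add_apply, LinearMap.smul_apply, smul_eq_mul, B_self, h,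
    h', mul_zero, add_zero]
  rw [B_swap v a, B_swap v x, B_swap a v, B_swap x v]
  ring

/-- The element `q(x; a, t)` of the stabiliser of `x`, for `a` orthogonal to `x`. -/
noncomputable def qE (x a : V) (h : B x a = 0) (t : F) : Sp :=
  ⟨LinearMap.toMatrix' (qLin x a t), qMat_mem h t⟩

@[simp]
theorem qE_apply (x a : V) (h : B x a = 0) (t : F) (v : V) :
    (qE x a h t : Mat) *ᵥ v = v + B v a • x + B v x • a + (t * B v x) • x := by
  show LinearMap.toMatrix' (qLin x a t) *ᵥ v = _
  rw [LinearMap.toMatrix'_mulVec, qLin_apply]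

/-- The transvection `v ↦ v + c B(v,x) x`. -/
noncomputable def tr (x : V) (c : F) : Sp := qE x 0 (map_zero _) c

@[simp]
theorem tr_apply (x : V) (c : F) (v : V) : (tr x c : Mat) *ᵥ v = v + (c * B v x) • x := by
  simp [tr]

theorem qE_congr {x a b : V} {t s : F} {h : B x a = 0} {h' : B x b = 0} (e : a = b) (e' : t = s) :
    qE x a h t = qE x b h' s := by subst e e'; rfl

theorem qE_mul {x a b : V} (ha : B x a = 0) (hb : B x b = 0) (t s : F) :
    qE x a ha t * qE x b hb s =
      qE x (a + b) (by rw [map_add, ha, hb, add_zero]) (t + s + B b a) := by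
  apply sp_ext
  intro v
  rw [Submonoid.coe_mul, ← Matrix.mulVec_mulVec]
  simp only [qE_apply, map_add, map_smul, LinearMap.add_apply, LinearMap.smul_apply, smul_eq_mul,
    B_self, ha, (B_eq_zero_comm _ _).1 hb, mul_zero, add_zero]
  module

theorem qE_zero (x : V) : qE x 0 (map_zero _) 0 = (1 : Sp) := sp_ext fun v => by simp

theorem qE_nsmul {x a : V} (ha : B x a = 0) (t : F) : ∀ k : ℕ,
    qE x a ha t ^ k = qE x (k • a) (by rw [map_nsmul, ha, smul_zero]) (k • t)
  | 0 => by
      rw [pow_zero, ← qE_zero x]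
      exact qE_congr (zero_smul _ _).symm (zero_smul _ _).symm
  | k + 1 => by
      rw [pow_succ, qE_nsmul ha t k, qE_mul]
      refine qE_congr (succ_nsmul a k).symm ?_
      rw [succ_nsmul, map_nsmul, B_self, smul_zero, add_zero]

theorem qE_pow_char (p : ℕ) [CharP F p] {x a : V} (ha : B x a = 0) (t : F) :
    qE x a ha t ^ p = 1 := by
  have h1 : p • a = 0 := by rw [← Nat.cast_smul_eq_nsmul F, CharP.cast_eq_zero, zero_smul]
  have h2 : p • t = 0 := by rw [← Nat.cast_smul_eq_nsmul F, CharP.cast_eq_zero, zero_smul]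
  rw [qE_nsmul, ← qE_zero x]
  exact qE_congr h1 h2

theorem qE_conj (s : Sp) {x a : V} (ha : B x a = 0) (t : F) :
    s * qE x a ha t * s⁻¹ =
      qE ((s : Mat) *ᵥ x) ((s : Mat) *ᵥ a) (by rw [B_sp]; exact ha) t := by
  apply sp_ext
  intro v
  obtain ⟨u, rfl⟩ : ∃ u, (s : Mat) *ᵥ u = v := ⟨_, sp_coe_mulVec_inv s v⟩
  rw [Submonoid.coe_mul, Submonoid.coe_mul, ← Matrix.mulVec_mulVec, ← Matrix.mulVec_mulVec,
    sp_coe_inv_mulVec, qE_apply, qE_apply, B_sp, B_sp, Matrix.mulVec_add, Matrix.mulVec_add,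
    Matrix.mulVec_add, Matrix.mulVec_smul, Matrix.mulVec_smul, Matrix.mulVec_smul]

theorem tr_conj (s : Sp) (x : V) (c : F) : s * tr x c * s⁻¹ = tr ((s : Mat) *ᵥ x) c :=
  (qE_conj s _ c).trans (qE_congr (Matrix.mulVec_zero _) rfl)

theorem tr_pow_char (p : ℕ) [CharP F p] (x : V) (c : F) : tr x c ^ p = 1 := qE_pow_char p _ c

theorem tr_zero (x : V) : tr x 0 = (1 : Sp) := qE_zero x

theorem tr_smul (x : V) (a c : F) : tr (a • x) c = tr x (a * a * c) := sp_ext fun v => by
  simp only [tr_apply, map_smul, smul_eq_mul]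
  module

theorem tr_ne_one {x : V} (hx : x ≠ 0) {c : F} (hc : c ≠ 0) : tr x c ≠ (1 : Sp) := by
  intro h
  obtain ⟨w, hw⟩ := exists_not_orth hx
  have := congrArg (fun g : Sp => (g : Mat) *ᵥ w) h
  simp [hw] at this
  rcases this with h' | h' <;> simp_all

/-- A non-trivial transvection determines its point. -/
theorem tr_eq_tr {x y : V} (hx : x ≠ 0) {c d : F} (hc : c ≠ 0) (h : tr x c = tr y d) :
    ∃ a : F, y = a • x := by
  apply exists_smul_of_orth
  intro v hv
  by_contra hy
  have hd : d ≠ 0 := by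
    rintro rfl
    exact tr_ne_one hx hc (h.trans (tr_zero y))
  have := congrArg (fun g : Sp => (g : Mat) *ᵥ v) h
  simp [hv] at this
  rcases this with (h' | h') | h'
  · exact hd h'
  · exact hy h'
  · subst h'; exact hy (map_zero _)

/-- Two non-trivial transvections commute exactly for orthogonal points. -/
theorem tr_commute_iff {x y : V} (hx : x ≠ 0) (hy : y ≠ 0) {c d : F} (hc : c ≠ 0) (hd : d ≠ 0) :
    tr x c * tr y d = tr y d * tr x c ↔ B x y = 0 := by
  constructor
  · intro h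
    by_contra hb
    have h' : tr x c * tr y d * (tr x c)⁻¹ = tr y d := by rw [h, mul_inv_cancel_right]
    rw [tr_conj] at h'
    have hb' : B y x ≠ 0 := fun h0 => hb ((B_eq_zero_comm _ _).1 h0)
    have hne : (tr x c : Mat) *ᵥ y ≠ 0 := fun h0 =>
      hy (sp_mulVec_injective (tr x c) (a₁ := y) (a₂ := 0) (by simpa using h0))
    obtain ⟨a, ha⟩ := tr_eq_tr hne hd h'
    have h1 := congrArg (fun w => B x w) ha
    simp only [tr_apply, map_add, map_smul, smul_eq_mul, B_self, mul_zero, add_zero] at h1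
    have h2 : a = 1 := mul_right_cancel₀ hb (h1.symm.trans (one_mul _).symm)
    subst h2
    simp at ha
    rcases ha with (h3 | h3) | h3
    · exact hc h3
    · exact hb' h3
    · exact hx h3
  · intro h
    apply sp_ext
    intro v
    simp only [Submonoid.coe_mul, ← Matrix.mulVec_mulVec, tr_apply, map_add, map_smul,
      LinearMap.add_apply, LinearMap.smul_apply, smul_eq_mul, h, (B_eq_zero_comm _ _).1 h,
      mul_zero, add_zero]
    module

/-! ### Semilinear automorphisms -/

/-- Coordinatewise application of a field automorphism. -/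
def vmap (σ : F ≃+* F) (v : V) : V := fun i => σ (v i)

theorem vmap_mulVec (σ : F ≃+* F) (A : Mat) (v : V) :
    A.map σ *ᵥ vmap σ v = vmap σ (A *ᵥ v) := by
  funext i
  simp [vmap, Matrix.mulVec, dotProduct, map_sum, map_mul]

theorem vmap_surjective (σ : F ≃+* F) : Function.Surjective (vmap (m := m) σ) :=
  fun v => ⟨vmap σ.symm v, funext fun i => σ.apply_symm_apply _⟩

theorem vmap_ne_zero (σ : F ≃+* F) {v : V} (hv : v ≠ 0) : vmap σ v ≠ 0 := fun h =>
  hv (funext fun i => σ.injective (by simpa [vmap] using congrFun h i))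

theorem vmap_smul (σ : F ≃+* F) (a : F) (v : V) : vmap σ (a • v) = σ a • vmap σ v :=
  funext fun _ => map_mul σ _ _

theorem B_vmap (σ : F ≃+* F) (u v : V) : B (vmap σ u) (vmap σ v) = σ (B u v) := by
  simp [spB_expand, vmap, map_sum, map_mul]

theorem map_mem_sp (σ : F ≃+* F) {A : Mat} (hA : A ∈ Matrix.symplecticGroup (Fin m) F) :
    A.map σ ∈ Matrix.symplecticGroup (Fin m) F := by
  rw [mem_symplectic_iff]
  intro u v
  obtain ⟨u, rfl⟩ := vmap_surjective σ u
  obtain ⟨v, rfl⟩ := vmap_surjective σ v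
  rw [vmap_mulVec, vmap_mulVec, B_vmap, B_vmap, (mem_symplectic_iff _).1 hA]

/-- Entrywise application of a field automorphism on `Sp`. -/
noncomputable def fld (σ : F ≃+* F) : MulAut Sp where
  toFun s := ⟨(s : Mat).map σ, map_mem_sp σ s.2⟩
  invFun s := ⟨(s : Mat).map σ.symm, map_mem_sp σ.symm s.2⟩
  left_inv s := by apply Subtype.ext; ext i j; simp
  right_inv s := by apply Subtype.ext; ext i j; simp
  map_mul' a b := Subtype.ext (Matrix.map_mul (f := (σ : F →+* F)))

theorem fld_coe (σ : F ≃+* F) (s : Sp) : ((fld σ s : Sp) : Mat) = (s : Mat).map σ := rfl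

theorem fld_apply (σ : F ≃+* F) (s : Sp) (v : V) :
    ((fld σ s : Sp) : Mat) *ᵥ vmap σ v = vmap σ ((s : Mat) *ᵥ v) := vmap_mulVec σ _ v

theorem fld_one : fld (RingEquiv.refl F) = (1 : MulAut Sp) :=
  MulEquiv.ext fun s => Subtype.ext (Matrix.ext fun _ _ => rfl)

theorem fld_mul (σ τ : F ≃+* F) : (fld σ * fld τ : MulAut Sp) = fld (τ.trans σ) :=
  MulEquiv.ext fun s => Subtype.ext (Matrix.ext fun _ _ => rfl)

theorem fld_tr (σ : F ≃+* F) (x : V) (c : F) : fld σ (tr x c) = tr (vmap σ x) (σ c) := by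
  apply sp_ext
  intro v
  obtain ⟨v, rfl⟩ := vmap_surjective σ v
  rw [fld_apply, tr_apply, tr_apply, B_vmap, ← map_mul, ← vmap_smul]
  exact funext fun _ => map_add σ _ _

theorem mem_GSp {g : GLV} :
    g ∈ Cfsg.GSp m F ↔ ∃ c : Fˣ, ∀ u v : V, B ((g : Mat) *ᵥ u) ((g : Mat) *ᵥ v) = c * B u v := by
  simp only [B_eq_sympForm]
  rfl

/-- The multiplier of a similitude. -/
noncomputable def mult (g : Cfsg.GSp m F) : Fˣ := (mem_GSp.1 g.2).choose

theorem mult_spec (g : Cfsg.GSp m F) (u v : V) :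
    B (((g : GLV) : Mat) *ᵥ u) (((g : GLV) : Mat) *ᵥ v) = mult g * B u v :=
  (mem_GSp.1 g.2).choose_spec u v

theorem conj_mem_sp (g : Cfsg.GSp m F) (s : Sp) :
    ((g : GLV) : Mat) * (s : Mat) * (((g : GLV)⁻¹ : GLV) : Mat) ∈
      Matrix.symplecticGroup (Fin m) F := by
  rw [mem_symplectic_iff]
  intro u v
  have h : ∀ w : V, ((g : GLV) : Mat) *ᵥ ((((g : GLV)⁻¹ : GLV) : Mat) *ᵥ w) = w := fun w => by
    rw [Matrix.mulVec_mulVec, ← Units.val_mul, mul_inv_cancel, Units.val_one, Matrix.one_mulVec]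
  rw [← Matrix.mulVec_mulVec, ← Matrix.mulVec_mulVec, ← Matrix.mulVec_mulVec,
    ← Matrix.mulVec_mulVec, mult_spec, B_sp, ← mult_spec, h, h]

/-- Conjugation by a similitude. -/
noncomputable def cj : Cfsg.GSp m F →* MulAut Sp where
  toFun g :=
    { toFun := fun s => ⟨_, conj_mem_sp g s⟩
      invFun := fun s => ⟨_, conj_mem_sp g⁻¹ s⟩
      left_inv := fun s => by
        apply Subtype.ext
        simp [Matrix.mul_assoc]
      right_inv := fun s => by
        apply Subtype.ext
        simp [Matrix.mul_assoc]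
      map_mul' := fun a b => by
        apply Subtype.ext
        simp [Matrix.mul_assoc] }
  map_one' := MulEquiv.ext fun s => Subtype.ext (by simp)
  map_mul' g h := MulEquiv.ext fun s => Subtype.ext (by simp [Matrix.mul_assoc, _root_.mul_inv_rev])

theorem cj_coe (g : Cfsg.GSp m F) (s : Sp) :
    ((cj g s : Sp) : Mat) = ((g : GLV) : Mat) * (s : Mat) * (((g : GLV)⁻¹ : GLV) : Mat) := rfl

theorem cj_apply (g : Cfsg.GSp m F) (s : Sp) (v : V) :
    ((cj g s : Sp) : Mat) *ᵥ (((g : GLV) : Mat) *ᵥ v) = ((g : GLV) : Mat) *ᵥ ((s : Mat) *ᵥ v) := by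
  rw [cj_coe, Matrix.mulVec_mulVec, Matrix.mulVec_mulVec, Matrix.mul_assoc, ← Units.val_mul,
    inv_mul_cancel, Units.val_one, Matrix.mul_one]

theorem gsp_mulVec_surjective (g : Cfsg.GSp m F) :
    Function.Surjective fun v : V => ((g : GLV) : Mat) *ᵥ v := fun w =>
  ⟨(((g : GLV)⁻¹ : GLV) : Mat) *ᵥ w, by
    simp [Matrix.mulVec_mulVec, ← Units.val_mul]⟩

theorem gsp_mulVec_injective (g : Cfsg.GSp m F) :
    Function.Injective fun v : V => ((g : GLV) : Mat) *ᵥ v := fun u v h => by
  simpa [Matrix.mulVec_mulVec, ← Units.val_mul] using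
    congrArg (fun w => (((g : GLV)⁻¹ : GLV) : Mat) *ᵥ w) h

theorem cj_tr (g : Cfsg.GSp m F) (x : V) (c : F) :
    cj g (tr x c) = tr (((g : GLV) : Mat) *ᵥ x) (c * (↑(mult g)⁻¹ : F)) := by
  apply sp_ext
  intro v
  obtain ⟨v, rfl⟩ := gsp_mulVec_surjective g v
  rw [cj_apply, tr_apply, tr_apply, mult_spec, Matrix.mulVec_add, Matrix.mulVec_smul]
  congr 2
  linear_combination (-(c * B v x)) * Units.inv_mul (mult g)

variable (m F) in
/-- The projection `Sp → PSp`. -/
def proj : Sp →* PSpG := QuotientGroup.mk' (Subgroup.center Sp)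

theorem proj_surjective : Function.Surjective (proj m F) := QuotientGroup.mk'_surjective _

theorem proj_eq_one_iff (s : Sp) : proj m F s = 1 ↔ s ∈ Subgroup.center Sp :=
  QuotientGroup.eq_one_iff s

/-- An automorphism of `Sp` acts on `PSp`. -/
def descend : MulAut Sp →* MulAut PSpG where
  toFun e := QuotientGroup.congr (Subgroup.center Sp) (Subgroup.center Sp) e (by
    ext x
    rw [Subgroup.mem_map]
    constructor
    · rintro ⟨z, hz, rfl⟩
      exact MulEquivClass.apply_mem_center e hz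
    · intro hx
      exact ⟨e.symm x, MulEquivClass.apply_mem_center e.symm hx, e.apply_symm_apply x⟩)
  map_one' := by
    ext x
    obtain ⟨s, rfl⟩ := QuotientGroup.mk_surjective x
    rfl
  map_mul' a b := by
    ext x
    obtain ⟨s, rfl⟩ := QuotientGroup.mk_surjective x
    rfl

theorem descend_proj (e : MulAut Sp) (s : Sp) : descend e (proj m F s) = proj m F (e s) := rfl

theorem descend_conj (s : Sp) : descend (MulAut.conj s) = MulAut.conj (proj m F s) := by
  ext x
  obtain ⟨t, rfl⟩ := proj_surjective x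
  rw [descend_proj]
  simp

end Cfsg.Agent.AutPSp
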