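import Cfsg.Agent.Lib.AutPSp.Main

/-!
# The graph automorphism of `Sp₄` in characteristic two

`γ M` is the action of `M` on `ω^⊥/ω` inside the exterior square, written as `2 × 2` minors;
its square is the Frobenius, and it exchanges the two classes of root involutions.
-/

set_option autoImplicit false

namespace Cfsg.Agent.AutPSp

open Matrix Cfsg.Agent.FormsLib

universe u

variable {F : Type u} [Field F]

local notation "ι₂" => Fin 2 ⊕ Fin 2
local notation "Mat" => Matrix (Fin 2 ⊕ Fin 2) (Fin 2 ⊕ Fin 2) F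
local notation "Sp" => Matrix.symplecticGroup (Fin 2) F
local notation "V" => Fin 2 ⊕ Fin 2 → F
local notation "B" => spB 2 F
local notation "PSpG" => Cfsg.PSp 2 F

/-- The four isotropic coordinate pairs. -/
def pairs : ι₂ → ι₂ × ι₂ :=
  Sum.elim ![(.inl 0, .inl 1), (.inl 0, .inr 1)] ![(.inr 0, .inr 1), (.inr 0, .inl 1)]

/-- The `2 × 2` minors on the isotropic pairs. -/
def gamMat (M : Mat) : Mat := Matrix.of fun P Q =>
  M (pairs P).1 (pairs Q).1 * M (pairs P).2 (pairs Q).2 +
    M (pairs P).1 (pairs Q).2 * M (pairs P).2 (pairs Q).1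

theorem gamMat_transpose (M : Mat) : gamMat Mᵀ = (gamMat M)ᵀ := by
  ext P Q
  simp [gamMat]
  ring

variable [CharP F 2]

theorem row_iso (M : Sp) (P : ι₂) :
    (M.1 (pairs P).1 (.inr 0) * M.1 (pairs P).2 (.inl 0) +
        M.1 (pairs P).1 (.inl 0) * M.1 (pairs P).2 (.inr 0)) +
      (M.1 (pairs P).1 (.inr 1) * M.1 (pairs P).2 (.inl 1) +
        M.1 (pairs P).1 (.inl 1) * M.1 (pairs P).2 (.inr 1)) = 0 := by
  have h := B_sp (⟨M.1ᵀ, SymplecticGroup.transpose_mem M.2⟩ : Sp) (bv (pairs P).1) (bv (pairs P).2)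
  rw [B_bv, spB_expand] at h
  simp only [bv, Matrix.mulVec_single_one, Fin.sum_univ_two] at h
  rcases P with P | P <;> fin_cases P <;>
    simp [pairs, sgn, bv, sub_eq_add_neg, neg_eq_self] at h ⊢ <;> linear_combination h

theorem col_iso (M : Sp) (Q : ι₂) :
    (M.1 (.inr 0) (pairs Q).1 * M.1 (.inl 0) (pairs Q).2 +
        M.1 (.inl 0) (pairs Q).1 * M.1 (.inr 0) (pairs Q).2) +
      (M.1 (.inr 1) (pairs Q).1 * M.1 (.inl 1) (pairs Q).2 +
        M.1 (.inl 1) (pairs Q).1 * M.1 (.inr 1) (pairs Q).2) = 0 := by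
  have h := row_iso ⟨M.1ᵀ, SymplecticGroup.transpose_mem M.2⟩ Q
  simpa using h

theorem gamMat_mul (M N : Sp) : gamMat (M.1 * N.1) = gamMat M.1 * gamMat N.1 := by
  ext P Q
  have hA := row_iso M P
  have hc := col_iso N Q
  have two : (2 : F) = 0 := CharTwo.two_eq_zero
  simp only [gamMat, Matrix.mul_apply, Matrix.of_apply, Fintype.sum_sum_type, Fin.sum_univ_two]
  set a := (pairs P).1
  set b := (pairs P).2
  set c := (pairs Q).1
  set d := (pairs Q).2
  simp only [pairs, Sum.elim_inl, Sum.elim_inr, Matrix.cons_val_zero, Matrix.cons_val_one,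
    Matrix.cons_val_fin_one]
  linear_combination
    (N.1 (.inr 0) c * N.1 (.inl 0) d + N.1 (.inl 0) c * N.1 (.inr 0) d) * hA +
    (M.1 a (.inr 1) * M.1 b (.inl 1) + M.1 a (.inl 1) * M.1 b (.inr 1)) * hc +
    (M.1 a (.inl 0) * M.1 b (.inl 0) * N.1 (.inl 0) c * N.1 (.inl 0) d +
      M.1 a (.inl 1) * M.1 b (.inl 1) * N.1 (.inl 1) c * N.1 (.inl 1) d +
      M.1 a (.inr 0) * M.1 b (.inr 0) * N.1 (.inr 0) c * N.1 (.inr 0) d +
      M.1 a (.inr 1) * M.1 b (.inr 1) * N.1 (.inr 1) c * N.1 (.inr 1) d -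
      (M.1 a (.inr 1) * M.1 b (.inl 1) + M.1 a (.inl 1) * M.1 b (.inr 1)) *
        (N.1 (.inr 0) c * N.1 (.inl 0) d + N.1 (.inl 0) c * N.1 (.inr 0) d)) * two

theorem gamMat_J : gamMat (Matrix.J (Fin 2) F) = Matrix.J (Fin 2) F := by
  ext P Q
  rcases P with P | P <;> rcases Q with Q | Q <;> fin_cases P <;> fin_cases Q <;>
    simp [gamMat, pairs, Matrix.J, neg_eq_self]

theorem gamMat_mem (M : Sp) : gamMat M.1 ∈ Matrix.symplecticGroup (Fin 2) F := by
  rw [SymplecticGroup.mem_iff', ← gamMat_transpose]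
  let T : Sp := ⟨M.1ᵀ, SymplecticGroup.transpose_mem M.2⟩
  let J' : Sp := ⟨Matrix.J (Fin 2) F, SymplecticGroup.J_mem _ _⟩
  have h1 := gamMat_mul T J'
  have h2 := gamMat_mul (T * J') M
  rw [Submonoid.coe_mul] at h2
  calc gamMat M.1ᵀ * Matrix.J (Fin 2) F * gamMat M.1
      = gamMat T.1 * gamMat J'.1 * gamMat M.1 := by rw [gamMat_J]
    _ = gamMat (T.1 * J'.1 * M.1) := by rw [h2, h1]
    _ = Matrix.J (Fin 2) F := by
        show gamMat (M.1ᵀ * Matrix.J (Fin 2) F * M.1) = _
        rw [SymplecticGroup.mem_iff'.1 M.2, gamMat_J]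

/-- The graph endomorphism. -/
noncomputable def gam : Sp →* Sp where
  toFun M := ⟨gamMat M.1, gamMat_mem M⟩
  map_one' := by
    apply Subtype.ext
    ext P Q
    rcases P with P | P <;> rcases Q with Q | Q <;> fin_cases P <;> fin_cases Q <;>
      simp [gamMat, pairs, Matrix.one_apply]
  map_mul' M N := Subtype.ext (gamMat_mul M N)

theorem tr_entry (x : V) (c : F) (i j : ι₂) :
    (tr x c : Mat) i j = (if i = j then 1 else 0) + c * x i * x j.swap := by
  have h := congrFun (tr_apply x c (bv j)) i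
  rw [show ((tr x c : Mat) *ᵥ bv j) i = (tr x c : Mat) i j by simp [bv]] at h
  rw [h, B_comm (bv j) x, B_bv]
  rcases j with j | j <;> simp [bv, sgn, Pi.single_apply, neg_eq_self] <;> ring

variable [Finite F]

/-- The Frobenius automorphism of a finite field of characteristic two. -/
noncomputable def frob2 : F ≃+* F :=
  RingEquiv.ofBijective (frobenius F 2) (Finite.injective_iff_bijective.1 (frobenius_inj F 2))

theorem frob2_apply (a : F) : frob2 a = a ^ 2 := rfl

theorem gam_gam_tr (x : V) (c : F) : gam (gam (tr x c)) = fld frob2 (tr x c) := by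
  apply Subtype.ext
  ext P Q
  rw [fld_coe, Matrix.map_apply, frob2_apply]
  show gamMat (gamMat (tr x c).1) P Q = _
  have n2 : (2 : F) = 0 := CharTwo.two_eq_zero
  have n3 : (3 : F) = 1 := by linear_combination n2
  have n4 : (4 : F) = 0 := by linear_combination 2 * n2
  have n5 : (5 : F) = 1 := by linear_combination 2 * n2
  have n6 : (6 : F) = 0 := by linear_combination 3 * n2
  have n7 : (7 : F) = 1 := by linear_combination 3 * n2
  have n8 : (8 : F) = 0 := by linear_combination 4 * n2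
  have n9 : (9 : F) = 1 := by linear_combination 4 * n2
  rcases P with P | P <;> rcases Q with Q | Q <;> fin_cases P <;> fin_cases Q <;>
    simp [gamMat, pairs, tr_entry] <;> ring_nf <;>
    simp [n2, n3, n4, n5, n6, n7, n8, n9]

theorem gam_gam (M : Sp) : gam (gam M) = fld frob2 M := by
  have htop : Subgroup.closure {g : Sp | ∃ w c, g = tr w c} = ⊤ := by
    rw [eq_top_iff]
    intro g _
    have h : spEquiv 2 F g ∈ Subgroup.map (spEquiv 2 F).toMonoidHom
        (Subgroup.closure {g : Sp | ∃ w c, g = tr w c}) := by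
      rw [MonoidHom.map_closure]
      refine Subgroup.closure_mono ?_ ((closure_spTau (m := 2) (F := F)).ge (Subgroup.mem_top _))
      rintro _ ⟨w, c, rfl⟩
      refine ⟨_, ⟨w, c, rfl⟩, Subtype.ext (LinearEquiv.ext fun v => ?_)⟩
      rw [MulEquiv.coe_toMonoidHom, spEquiv_apply, tr_apply, coe_spTau, tau_apply]
    obtain ⟨a, ha, e⟩ := h
    rwa [← (spEquiv 2 F).injective e]
  exact DFunLike.congr_fun (MonoidHom.eq_of_eqOn_dense htop (f := gam.comp gam)
    (g := (fld frob2).toMonoidHom) (by rintro _ ⟨w, c, rfl⟩; exact gam_gam_tr w c)) M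

theorem gam_bijective : Function.Bijective (gam (F := F)) := by
  refine Finite.injective_iff_bijective.1 fun a b h => (fld frob2).injective ?_
  rw [← gam_gam, ← gam_gam, h]

/-- The graph automorphism. -/
noncomputable def gamAut : MulAut Sp := MulEquiv.ofBijective gam gam_bijective

theorem gamAut_sq : (gamAut * gamAut : MulAut Sp) = fld frob2 := MulEquiv.ext gam_gam

/-- The graph automorphism of `PSp₄`. -/
noncomputable def graph : MulAut PSpG := descend gamAut

theorem graph_sq : (graph * graph : MulAut PSpG) = descend (fld frob2) := by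
  rw [graph, ← map_mul, gamAut_sq]

theorem graph_proj (s : Sp) : graph (proj 2 F s) = proj 2 F (gam s) := rfl

/-- `γ` does not map a transvection to a transvection. -/
theorem gam_tr_ne (y : V) (d : F) : gam (tr (bv (.inl 0)) 1) ≠ tr y d := by
  intro h
  have e := fun i j => congrArg (fun g : Sp => g.1 i j) h
  have e1 := e (.inl 0) (.inr 1)
  have e2 := e (.inl 1) (.inr 0)
  have e3 := e (.inl 0) (.inr 0)
  have e4 := e (.inl 1) (.inr 1)
  change gamMat (tr (bv (.inl 0)) 1).1 _ _ = _ at e1 e2 e3 e4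
  simp [gamMat, pairs, tr_entry, bv] at e1 e2 e3 e4
  rcases e3 with e3 | e3
  · simp [e3] at e1
  · simp [e3] at e1 e2

theorem conj_root {y b : V} (hy : y ≠ 0) (hb : B y b = 0) (hby : ∀ k : F, b ≠ k • y) :
    ∃ s : Sp, qE y b hb 0 =
      s * qE (bv (.inl 0)) (bv (.inl 1)) (by rw [B_bv]; simp [bv]) 0 * s⁻¹ := by
  obtain ⟨w, hw⟩ := exists_not_orth hy
  set b' := b + B w b • y with hb'
  have hb'y : B y b' = 0 := by simp [hb', hb, B_self]
  have hwb : B w b' = 0 := by simp [hb', hw, CharTwo.add_self_eq_zero]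
  have heq : qE y b hb 0 = qE y b' hb'y 0 := sp_ext fun v => by
    simp only [qE_apply, hb', map_add, map_smul, smul_eq_mul]
    have e := vec_add_self (m := 2) ((B w b * B v y) • y)
    linear_combination (norm := module) -e
  have hb'0 : b' ≠ 0 := fun e => hby (B w b) (by
    rw [← sub_eq_zero, sub_eq_add_neg, ← neg_smul, neg_eq_self]; exact e)
  obtain ⟨d0, hd0⟩ := exists_not_orth hb'0
  set d := d0 + B d0 w • y + B d0 y • w with hd
  have hyd : B y d = 0 := by
    simp [hd, B_self, B_comm y w, hw, B_comm y d0, CharTwo.add_self_eq_zero]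
  have hwd : B w d = 0 := by
    simp [hd, B_self, hw, B_comm w d0, CharTwo.add_self_eq_zero]
  have hdb : B d b' = 1 := by simp [hd, hd0, hb'y, hwb]
  let col : ι₂ → V := Sum.elim ![y, b'] ![w, d]
  let A : Mat := Matrix.of fun a c => col c a
  have hAb : ∀ i, A *ᵥ bv i = col i := fun i => by
    funext a
    simp [A, bv]
  have hcol : ∀ i j, B (col i) (col j) = B (bv i : V) (bv j) := by
    intro i j
    rw [B_bv (bv i : V)]
    rcases i with i | i <;> rcases j with j | j <;> fin_cases i <;> fin_cases j <;>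
      simp [col, sgn, bv, B_self, hw, hwb, hb'y, hyd, hwd, hdb, B_comm y w, B_comm b' w,
        B_comm b' y, B_comm d y, B_comm d w, B_comm b' d, neg_eq_self]
  have hlin : ∀ u : V, u = ∑ i, u i • bv i := fun u => by
    funext a
    simp [bv, Pi.single_apply, Finset.sum_ite_eq]
  have hA : A ∈ Matrix.symplecticGroup (Fin 2) F := by
    rw [mem_symplectic_iff]
    intro u u'
    rw [hlin u, hlin u']
    simp only [Matrix.mulVec_sum, Matrix.mulVec_smul, map_sum, LinearMap.sum_apply, map_smul,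
      LinearMap.smul_apply, hAb, hcol]
  refine ⟨⟨A, hA⟩, ?_⟩
  rw [heq, qE_conj]
  simp only [hAb, col, Sum.elim_inl, Matrix.cons_val_zero, Matrix.cons_val_one,
    Matrix.cons_val_fin_one]

/-- The class of `tr x c` for `c ≠ 0` does not depend on `x` and `c`. -/
theorem conj_tr {x y : V} (hx : x ≠ 0) (hy : y ≠ 0) {c d : F} (hc : c ≠ 0) (hd : d ≠ 0) :
    ∃ s : Sp, tr y d = s * tr x c * s⁻¹ := by
  obtain ⟨a, ha⟩ := (frob2 (F := F)).surjective (c / d)
  obtain ⟨s, hs⟩ := exists_map_vector hx (smul_ne_zero (r := a) (by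
    rintro rfl
    rw [map_zero] at ha
    exact div_ne_zero hc hd ha.symm) hx)
  obtain ⟨t, ht⟩ := exists_map_vector hx hy
  refine ⟨t * s⁻¹, ?_⟩
  have e : tr x c = s * tr x d * s⁻¹ := by
    rw [tr_conj, hs, tr_smul, ← pow_two, ← frob2_apply, ha, div_mul_cancel₀ _ hd]
  rw [e, ← ht, ← tr_conj]
  group

/-- Transvections go to transvections under `φ` or under `graph * φ`. -/
theorem tpres_or_graph (φ : MulAut PSpG) : TPres φ ∨ TPres (graph * φ) := by
  have he : (bv (.inl 0) : V) ≠ 0 := bv_ne_zero _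
  have mk : ∀ (ψ : MulAut PSpG) {y : V} {d : F}, y ≠ 0 → d ≠ 0 →
      ψ (proj 2 F (tr (bv (.inl 0)) 1)) = proj 2 F (tr y d) → TPres ψ := by
    intro ψ y d hy hd h x c hx hc
    obtain ⟨s, hs⟩ := conj_tr he hx one_ne_zero hc
    obtain ⟨s', hs'⟩ := proj_surjective (ψ (proj 2 F s))
    refine ⟨(s' : Mat) *ᵥ y, d, fun e => hy (sp_mulVec_injective s' (a₁ := y) (a₂ := 0)
      (by simpa using e)), hd, ?_⟩
    rw [hs, map_mul, map_mul, map_inv, map_mul, map_mul, map_inv, h, ← hs', ← map_inv, ← map_mul,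
      ← map_mul, tr_conj]
  rcases image_tr_two φ he (one_ne_zero (α := F)) with ⟨y, d, hy, hd, e⟩ | ⟨-, y, b, hb, hy, hby, e⟩
  · exact Or.inl (mk φ hy hd e)
  · right
    -- `γ τ₀` is itself a short root element
    rcases image_tr_two graph he (one_ne_zero (α := F)) with ⟨y', d', -, -, e'⟩ |
        ⟨-, y', b', hb', hy', hby', e'⟩
    · exact absurd (proj_injective ((graph_proj _).symm.trans e')) (gam_tr_ne y' d')
    · have e1 : gam (tr (bv (.inl 0)) 1) = qE y' b' hb' 0 :=
        proj_injective ((graph_proj _).symm.trans e')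
      obtain ⟨s, hs⟩ := conj_root hy hb hby
      obtain ⟨s', hs'⟩ := conj_root hy' hb' hby'
      have e2 : qE y b hb 0 = (s * s'⁻¹) * qE y' b' hb' 0 * (s * s'⁻¹)⁻¹ := by
        rw [hs, hs']; group
      have e3 : gam (qE y' b' hb' 0) = tr (vmap frob2 (bv (.inl 0))) (frob2 (1 : F)) := by
        rw [← e1, gam_gam, fld_tr]
      refine mk (graph * φ)
        (y := (gam (s * s'⁻¹) : Mat) *ᵥ vmap frob2 (bv (.inl 0)))
        (d := frob2 (1 : F)) (fun h0 => ?_) (by simp) ?_
      · exact vmap_ne_zero _ he (sp_mulVec_injective (gam (s * s'⁻¹))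
          (a₁ := vmap frob2 (bv (.inl 0))) (a₂ := 0) (by simpa using h0))
      · rw [MulAut.mul_apply, e, graph_proj, e2, map_mul gam, map_mul gam, map_inv gam, e3, tr_conj]

theorem not_tpres_graph : ¬ TPres (graph (F := F)) := by
  intro h
  obtain ⟨y, d, -, -, e⟩ := h _ 1 (bv_ne_zero (.inl 0)) one_ne_zero
  exact gam_tr_ne y d (proj_injective ((graph_proj _).symm.trans e))

/-- Every automorphism of `PSp₄` in characteristic two. -/
theorem exists_normal_form_four (φ : MulAut PSpG) :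
    ∃ (g : Cfsg.GSp 2 F) (σ : F ≃+* F), φ = stdA g σ ∨ φ = graph⁻¹ * stdA g σ := by
  rcases tpres_or_graph φ with h | h
  · obtain ⟨g, σ, e⟩ := exists_normal_form_of_tpres 2 le_rfl h
    exact ⟨g, σ, Or.inl e⟩
  · obtain ⟨g, σ, e⟩ := exists_normal_form_of_tpres 2 le_rfl h
    exact ⟨g, σ, Or.inr (by rw [← e, inv_mul_cancel_left])⟩

/-- `|Aut PSp₄(2^f)|`. -/
theorem card_aut_four :
    Nat.card (MulAut PSpG) = 2 * (Nat.card (Cfsg.PGSp 2 F) * Nat.card (F ≃+* F)) := by
  rw [← card_tpres 2 le_rfl, two_mul, ← Nat.card_sum]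
  symm
  refine Nat.card_congr (Equiv.ofBijective
    (Sum.elim (fun φ => φ.1) fun φ => graph⁻¹ * φ.1) ⟨?_, ?_⟩)
  · have hno : ∀ a b : {φ : MulAut PSpG // TPres φ}, a.1 ≠ graph⁻¹ * b.1 := by
      rintro ⟨a, ha⟩ ⟨b, hb⟩ e
      apply not_tpres_graph (F := F)
      obtain ⟨g, σ, rfl⟩ := exists_normal_form_of_tpres 2 le_rfl ha
      have eg : graph = b * (stdA g σ)⁻¹ := by
        rw [eq_mul_inv_iff_mul_eq]
        exact (eq_inv_mul_iff_mul_eq.1 e)
      rw [eg]
      exact hb.mul (tpres_stdA_symm g σ)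
    rintro (a | a) (b | b) h
    · exact congrArg Sum.inl (Subtype.ext h)
    · exact absurd h (hno a b)
    · exact absurd h.symm (hno b a)
    · exact congrArg Sum.inr (Subtype.ext (mul_left_cancel h))
  · intro φ
    rcases tpres_or_graph φ with h | h
    · exact ⟨.inl ⟨φ, h⟩, rfl⟩
    · exact ⟨.inr ⟨_, h⟩, inv_mul_cancel_left _ _⟩

end Cfsg.Agent.AutPSp
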