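import Cfsg.Agent.Lib.AutPSp.Four

/-!
# `Out(PSp₄(2^f))` is cyclic of order `2f`, generated by the graph automorphism
-/

set_option autoImplicit false

namespace Cfsg.Agent.AutPSp

open Matrix Cfsg.Agent.FormsLib

universe u

variable {F : Type u} [Field F] [CharP F 2]

local notation "Sp" => Matrix.symplecticGroup (Fin 2) F
local notation "PSpG" => Cfsg.PSp 2 F

theorem center_psp_eq_bot {m : ℕ} (z : Cfsg.PSp m F)
    (hz : z ∈ Subgroup.center (Cfsg.PSp m F)) : z = 1 := by
  obtain ⟨s, rfl⟩ := proj_surjective z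
  rw [proj_eq_one_iff, Subgroup.mem_center_iff]
  exact fun g => proj_injective (by rw [map_mul, map_mul, Subgroup.mem_center_iff.1 hz])

theorem card_inn {m : ℕ} : Nat.card (Cfsg.Inn (Cfsg.PSp m F)) = Nat.card (Cfsg.PSp m F) := by
  refine (Nat.card_congr (MonoidHom.ofInjective ?_).toEquiv).symm
  intro a b hab
  rw [← inv_mul_eq_one]
  refine center_psp_eq_bot _ (Subgroup.mem_center_iff.2 fun x => ?_)
  have e := DFunLike.congr_fun hab x
  rw [MulAut.conj_apply, MulAut.conj_apply] at e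
  calc x * (a⁻¹ * b) = a⁻¹ * (a * x * a⁻¹) * b := by group
    _ = a⁻¹ * (b * x * b⁻¹) * b := by rw [e]
    _ = _ := by group

variable [Finite F]

theorem pgHom_mem_inn {m : ℕ} (hm : 1 ≤ m) (g : Cfsg.GSp m F) :
    descend (cj g) ∈ Cfsg.Inn (Cfsg.PSp m F) := by
  obtain ⟨a, ha⟩ := (frob2 (F := F)).surjective (mult g : F)
  have ha0 : a ≠ 0 := by
    rintro rfl
    rw [map_zero] at ha
    exact (mult g).ne_zero ha.symm
  let z : Cfsg.GSp m F := ⟨_, scalar_mem_GSp (Units.mk0 a ha0)⟩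
  have hz : cj z = 1 := cj_scalar ((Cfsg.Geo.mem_scalars_iff _).2 ⟨Units.mk0 a ha0, by
    simp [z, Matrix.GeneralLinearGroup.scalar, Matrix.smul_one_eq_diagonal]⟩)
  have hmz : multHom hm z = multHom hm g := by
    obtain ⟨w, hw⟩ := exists_not_orth (bv_ne_zero (F := F) (.inl (⟨0, hm⟩ : Fin m)))
    have e := mult_spec z w (bv (.inl ⟨0, hm⟩))
    simp [z, Matrix.GeneralLinearGroup.scalar, Matrix.diagonal_const_mulVec, hw] at e
    apply Units.ext
    show (mult z : F) = mult g
    rw [← ha, frob2_apply, pow_two]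
    exact e.symm
  set h := z⁻¹ * g with hh
  have h1 : mult h = 1 := by
    show multHom hm h = 1
    rw [hh, map_mul, map_inv, hmz, inv_mul_cancel]
  let s : Matrix.symplecticGroup (Fin m) F :=
    ⟨((h : GL (Fin m ⊕ Fin m) F) : Matrix (Fin m ⊕ Fin m) (Fin m ⊕ Fin m) F),
      (mem_symplectic_iff _).2 fun u v => by rw [mult_spec, h1, Units.val_one, one_mul]⟩
  refine ⟨proj m F s, ?_⟩
  rw [← descend_conj, ← cj_spToG]
  congr 1
  rw [show spToG s = h from Subtype.ext (Units.ext rfl), hh, map_mul, map_inv, hz, inv_one, one_mul]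

theorem frob2_pow_apply (k : ℕ) (a : F) : (frob2 ^ k : F ≃+* F) a = a ^ 2 ^ k := by
  induction k with
  | zero => simp
  | succ k ih =>
    rw [pow_succ', RingAut.mul_apply, ih, frob2_apply, ← pow_mul, ← pow_succ]

theorem exists_frob2_pow [Fintype F] (σ : F ≃+* F) : ∃ k : ℕ, σ = frob2 ^ k := by
  letI : Algebra (ZMod 2) F := ZMod.algebra F 2
  obtain ⟨n, hn⟩ :=
    (FiniteField.bijective_frobeniusAlgEquivOfAlgebraic_pow (ZMod 2) F).2
      (AutPSL.ringAutEquiv (F := F) 2 σ)
  refine ⟨n, RingEquiv.ext fun a => ?_⟩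
  have e : AutPSL.ringAutEquiv (F := F) 2 σ a = σ a := rfl
  rw [frob2_pow_apply, ← e, ← hn]
  have : ∀ (j : ℕ) (b : F),
      (FiniteField.frobeniusAlgEquivOfAlgebraic (ZMod 2) F ^ j) b = b ^ 2 ^ j := by
    intro j
    induction j with
    | zero => intro b; simp
    | succ j ih =>
      intro b
      rw [pow_succ', AlgEquiv.mul_apply, ih, FiniteField.frobeniusAlgEquivOfAlgebraic_apply,
        ZMod.card, ← pow_mul, ← pow_succ]
  exact this n a

theorem descend_fld_pow (k : ℕ) :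
    descend (fld ((frob2 : F ≃+* F) ^ k) : MulAut Sp) = (graph * graph : MulAut PSpG) ^ k := by
  induction k with
  | zero =>
    rw [pow_zero, pow_zero]
    exact descend_fld_one
  | succ k ih =>
    rw [pow_succ', pow_succ', ← ih, graph_sq, ← map_mul, fld_mul]
    rfl

/-- Modulo inner automorphisms everything is a power of the graph automorphism. -/
theorem out_mem_zpowers [Fintype F] (x : Cfsg.Out PSpG) :
    x ∈ Subgroup.zpowers (QuotientGroup.mk (graph (F := F)) : Cfsg.Out PSpG) := by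
  obtain ⟨φ, rfl⟩ := QuotientGroup.mk_surjective x
  obtain ⟨g, σ, h⟩ := exists_normal_form_four φ
  obtain ⟨k, rfl⟩ := exists_frob2_pow σ
  have hs : (QuotientGroup.mk (stdA g (frob2 ^ k)) : Cfsg.Out PSpG) =
      QuotientGroup.mk (graph (F := F)) ^ (2 * k) := by
    rw [stdA, map_mul, descend_fld_pow, ← QuotientGroup.mk_pow, pow_mul, pow_two,
      QuotientGroup.mk_mul, (QuotientGroup.eq_one_iff _).2 (pgHom_mem_inn (by omega) g), one_mul]
  have hm := Subgroup.mem_zpowers (QuotientGroup.mk (graph (F := F)) : Cfsg.Out PSpG)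
  rcases h with rfl | rfl
  · rw [hs]; exact pow_mem hm _
  · rw [QuotientGroup.mk_mul, QuotientGroup.mk_inv, hs]
    exact mul_mem (inv_mem hm) (pow_mem hm _)

theorem card_out_four [Fintype F] {f : ℕ} (hf : 1 ≤ f) (hF : Fintype.card F = 2 ^ f) :
    Nat.card (Cfsg.Out PSpG) = 2 * f := by
  have h : Nat.card (MulAut PSpG) = Nat.card (Cfsg.Out PSpG) * Nat.card (Cfsg.Inn PSpG) :=
    Subgroup.card_eq_card_quotient_mul_card_subgroup _
  rw [card_aut_four, card_inn, card_PGSp_eq 2 (by omega) hf hF,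
    AutPSL.card_ringAut (F := F) 2 f hF] at h
  have hg : Nat.gcd 2 (2 ^ f - 1) = 1 :=
    Nat.coprime_two_left.2 (Nat.Even.sub_odd Nat.one_le_two_pow
      (Nat.even_pow.2 ⟨even_two, by omega⟩) odd_one)
  rw [hg, one_mul] at h
  refine (Nat.eq_of_mul_eq_mul_right (m := Nat.card PSpG) Nat.card_pos ?_).symm
  rw [← h]
  ring

end Cfsg.Agent.AutPSp
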